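import Mathlib
import Cfsg.Agent.Lib.GMS.Base

/-! Standard subgroups of type `L₂(2^a)` (plans/GMS.md, package COR). -/

set_option autoImplicit false
set_option linter.unusedSectionVars false

namespace CfsgLib.GMS

open Subgroup Cfsg CfsgLib.Tech CfsgLib.SzS
open scoped MatrixGroups

variable {F : Type*} [Field F] [Finite F] {G : Type*} [Group G] [Finite G]

namespace Fr

variable {D : Fr F G} {Y L : Subgroup G} {f φ : G} {b : ℕ}

namespace Inv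

variable (H : D.Inv Y)
include H

theorem η_norm {l : F} (hl : l ≠ 0) : D.η l ∈ normalizer (Y : Set G) := by
  exact H.nB _ (D.ηt l hl) (D.η_norm hl)

theorem fpf {l : F} (h0 : l ≠ 0) (h1 : l ≠ 1) {y : G} (hy : y ∈ Y) (h : D.η l * y = y * D.η l) : y = 1 := by
  by_contra hne
  have hn : D.t ∈ normalizer ((Y ⊓ centralizer {D.η l} : Subgroup G) : Set G) := mem_normalizer_of_forall fun x hx =>
    mem_inf.2 ⟨conj_mem_of_mem_normalizer H.nt hx.1, mul_mem (mul_mem (Sect.mem_cent.2 (D.ηt l h0).symm) hx.2)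
      (inv_mem (Sect.mem_cent.2 (D.ηt l h0).symm))⟩
  obtain ⟨x, hx, x1, hc⟩ := Sect.exists_cent_of_norm (P := zpowers D.t ⊔ Y ⊓ centralizer {D.η l})
    ((isPGroup_two_zpowers D.tt).to_sup_of_normal_right' (H.pg.to_le inf_le_left) (zpowers_le.2 hn)) le_sup_right
    (fun g hg x => conj_mem_of_mem_normalizer (sup_le (zpowers_le.2 hn) le_normalizer hg))
    fun e => hne (mem_bot.1 (e ▸ ⟨hy, Sect.mem_cent.2 h.symm⟩))
  obtain ⟨a, rfl⟩ := H.ct x hx.1 (hc _ (mem_sup_left (mem_zpowers _))).symm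
  have h2 := D.ηι l a h0
  rw [← Sect.mem_cent.1 hx.2, mul_inv_cancel_right, D.inj.eq_iff] at h2
  refine x1 (D.ι_eq_one.2 ((mul_eq_zero_iff_left (D.one_add_ne h1)).1 ?_))
  linear_combination h2 + l * a * D.two

theorem le_L (hL : Top D.t L) : Y ≤ L := by
  obtain ⟨l, l0, l1⟩ := D.big
  have := hL.norm
  have hη := mem_of_odd hL (D.η_odd l0)
  have hf : ∀ a ∈ Y, a⁻¹ * D.η l * a * (D.η l)⁻¹ ∈ Y := fun a ha => by
    rw [mul_assoc, mul_assoc, ← mul_assoc (D.η l)]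
    exact mul_mem (inv_mem ha) (conj_mem_of_mem_normalizer (H.η_norm l0) ha)
  intro y hy
  obtain ⟨a, e⟩ := Finite.injective_iff_surjective.1 (show Function.Injective fun a : Y => (⟨_, hf a a.2⟩ : Y) from
    fun a b e => Subtype.ext (mul_inv_eq_one.1 (H.fpf l0 l1 (mul_mem b.2 (inv_mem a.2))
      (Sect.comm_fib (congrArg Subtype.val e)).symm)).symm) ⟨y, hy⟩
  rw [← show _ = y from congrArg Subtype.val e]
  exact mul_mem (this.conj_mem' _ hη _) (inv_mem hη)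

theorem t_not_mem : D.t ∉ Y := by
  exact fun h => D.t_not_mem (H.ct _ h rfl)

theorem T1_norm : D.T1 ≤ normalizer (Y : Set G) := by
  exact fun x hx => H.nB x (D.T1t x hx) (D.T1_norm hx)

theorem S_norm : Y ⊔ D.T1 ≤ normalizer (Y : Set G) := by
  exact sup_le le_normalizer H.T1_norm

theorem pgS : IsPGroup 2 ↥(Y ⊔ D.T1) := by
  exact H.pg.to_sup_of_normal_left' D.pg1 H.T1_norm

theorem mem_S {x : G} : x ∈ Y ⊔ D.T1 ↔ ∃ y ∈ Y, ∃ z ∈ D.T1, x = y * z := by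
  refine ⟨fun h => ?_, by rintro ⟨y, hy, z, hz, rfl⟩; exact mul_mem_sup hy hz⟩
  rw [sup_comm, Sect.mem_sup_of_norm fun z hz y => conj_mem_of_mem_normalizer (H.T1_norm hz)] at h
  obtain ⟨z, hz, y, hy, rfl⟩ := h
  exact ⟨_, conj_mem_of_mem_normalizer (H.T1_norm hz) hy, z, hz, (inv_mul_cancel_right _ _).symm⟩

theorem mem_t {x : G} : x ∈ Y ⊔ zpowers D.t ↔ x ∈ Y ∨ D.t * x ∈ Y := by
  rw [sup_comm, Sect.mem_sup_of_norm fun z hz y => conj_mem_of_mem_normalizer (zpowers_le.2 H.nt hz)]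
  simp only [Sect.mem_zpowers_two D.tt, exists_eq_or_imp, exists_eq_left, one_mul, exists_eq_right']
  exact or_congr_right ⟨by rintro ⟨k, hk, rfl⟩; rwa [← mul_assoc, D.tt, one_mul],
    fun h => ⟨_, h, by rw [← mul_assoc, D.tt, one_mul]⟩⟩

theorem eq_one {x : G} (h1 : x ∈ Y) (h2 : x ∈ D.T1) : x = 1 := by
  exact D.eq_one_of_mem (H.ct x h1 (D.T1t x h2)) h2

theorem T_le : D.T ≤ Y ⊔ D.T1 := by
  exact sup_le_sup_right H.VY _

/-- `C_R(t) = T` for every 2-group `R ≥ T` -/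
theorem mem_T {R : Subgroup G} (hR : IsPGroup 2 R) (hT : D.T ≤ R) {x : G} (hx : x ∈ R) (h : x * D.t = D.t * x) :
    x ∈ D.T := by
  exact (H.syl.eq_of_le (hR.to_le inf_le_left) (le_inf hT H.syl.le) inf_le_right).le ⟨hx, Sect.mem_cent.2 h⟩

theorem card_S : Nat.card ↥(Y ⊔ D.T1) = Nat.card Y * Nat.card D.T1 := by
  exact base_card (fun _ => H.mem_S) fun _ => H.eq_one

theorem inf_t : Y ⊓ centralizer {D.t} = D.V := by
  exact le_antisymm (fun y hy => H.ct y hy.1 (Sect.mem_cent.1 hy.2))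
    fun v hv => ⟨H.VY hv, Sect.mem_cent.2 (D.t_cent v hv)⟩

theorem tyt {y : G} (hy : y ∈ Y) : D.t * (y * D.t) ∈ Y := by
  have := conj_mem_of_mem_normalizer H.nt hy
  rwa [D.t_inv, mul_assoc] at this

/-- the elements of `S` that centralise `V` -/
theorem cent_V {x : G} (hx : x ∈ Y ⊔ D.T1) (cen : ∀ v ∈ D.V, ∀ y ∈ Y, y * v = v * y)
    (hc : x ∈ centralizer (D.V : Set G)) : x ∈ Y ∨ D.t * x ∈ Y := by
  obtain ⟨y, hy, z, hz, rfl⟩ := H.mem_S.1 hx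
  rcases H.r2 z hz ((mul_mem_cancel_left (Sect.mem_cent'.2 fun v hv => (cen v hv y hy).symm)).1 hc) with rfl | rfl
  · exact Or.inl (mul_mem hy (one_mem _))
  · exact Or.inr (H.tyt hy)

omit H in
theorem _root_.CfsgLib.GMS.Fr.Spl.φ' (S : D.Spl f φ b) (R : D.R2) {s : G} (hs : s = φ ∨ s = D.t * φ) :
    s ∈ D.T1 ∧ s * s = 1 ∧ D.σ s = D.σ φ := by
  rcases hs with rfl | rfl
  · exact ⟨S.φT, S.φφ, rfl⟩
  · exact ⟨mul_mem D.tT1 S.φT, by rw [mul_assoc, ← mul_assoc φ, ← S.tφ, mul_assoc, S.φφ, mul_one, D.tt], (S.σφ R).2.2⟩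

/-- `φ` and `t φ` act freely -/
theorem free (S : D.Spl f φ b) {s : G} (hs : s = φ ∨ s = D.t * φ) :
    (∀ y ∈ Y, s * y * (s * y) = 1 → ∃ z ∈ Y, z * s * z⁻¹ = s * y) ∧
      Nat.card ↥(Y ⊓ centralizer {s}) ^ 2 ≤ Nat.card Y := by
  obtain ⟨l, l0, l1, h⟩ := S.exists_k H.toR2
  obtain ⟨h1, h2, h3⟩ := S.φ' H.toR2 hs
  refine free_conj H.pg (H.η_norm l0) (H.T1_norm h1) h2 (D.η_odd l0) ?_ fun y => H.fpf l0 l1
  rw [← h]
  nth_rewrite 2 [← inv_eq_of_mul_eq_one_right h2, ← inv_eq_of_mul_eq_one_right S.φφ]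
  rw [D.actη s h1 l l0, D.actη φ S.φT l l0, h3]

theorem sq_T1 {y z : G} (hy : y ∈ Y) (hz : z ∈ D.T1) (h : y * z * (y * z) = 1) : z * z = 1 := by
  refine H.eq_one ?_ (mul_mem hz hz)
  rw [show y * z * (y * z) = y * (z * y * z⁻¹) * (z * z) by group, mul_eq_one_iff_inv_eq] at h
  exact h ▸ inv_mem (mul_mem hy (conj_mem_of_mem_normalizer (H.T1_norm hz) hy))

theorem inv_cases (S : D.Spl f φ b) {s : G} (hs : s ∈ Y ⊔ D.T1) (ss : s * s = 1) :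
    s ∈ Y ∨ D.t * s ∈ Y ∨ ∃ z ∈ Y, z * s * z⁻¹ = φ ∨ z * s * z⁻¹ = D.t * φ := by
  obtain ⟨y, hy, z, hz, rfl⟩ := H.mem_S.1 hs
  rcases S.inv hz (H.sq_T1 hy hz ss) with rfl | rfl | h
  · exact Or.inl (mul_mem hy (one_mem _))
  · exact Or.inr (Or.inl (H.tyt hy))
  · have e : y * z = z * (z⁻¹ * y * z) := by group
    obtain ⟨w, hw, e'⟩ := (H.free S h).1 _ (conj_mem_of_mem_normalizer' (H.T1_norm hz) hy) (e ▸ ss)
    refine Or.inr (Or.inr ⟨w⁻¹, inv_mem hw, ?_⟩)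
    rwa [e, ← e', show w⁻¹ * (w * z * w⁻¹) * w⁻¹⁻¹ = z by group]

theorem inv_cy (S : D.Cy f b) {s : G} (hs : s ∈ Y ⊔ D.T1) (ss : s * s = 1) : s ∈ Y ∨ D.t * s ∈ Y := by
  obtain ⟨y, hy, z, hz, rfl⟩ := H.mem_S.1 hs
  rcases S.inv hz (H.sq_T1 hy hz ss) with rfl | rfl
  · exact Or.inl (mul_mem hy (one_mem _))
  · exact Or.inr (H.tyt hy)

/-- `|C_Y(s)| ≥ r |C_{Y/V}(s)|` in the form needed for special groups -/
theorem card_cφ (S : D.Spl f φ b) {s : G} (hs : s = φ ∨ s = D.t * φ) (cen : ∀ v ∈ D.V, ∀ y ∈ Y, y * v = v * y)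
    (sq : ∀ y ∈ Y, y * y ∈ D.V) (hc : Nat.card Y = Nat.card F ^ 3) :
    Nat.card ↥(Y ⊓ centralizer {s}) = Nat.card (fixA (D.σ φ)) ^ 3 := by
  classical
  obtain ⟨h1, h2, h3⟩ := S.φ' H.toR2 hs
  have ns : ∀ y ∈ Y, s * y * s⁻¹ ∈ Y := fun y => conj_mem_of_mem_normalizer (H.T1_norm h1)
  have nV : ∀ y ∈ Y, ∀ v ∈ D.V, y * v * y⁻¹ ∈ D.V := fun y hy v hv => by rwa [cen v hv y hy, mul_inv_cancel_right]
  have cj2 : ∀ y, s * (s * y * s⁻¹) * s⁻¹ = y := fun y => by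
    rw [show s * (s * y * s⁻¹) * s⁻¹ = s * s * y * (s * s)⁻¹ by group, h2, inv_one, one_mul, mul_one]
  let P : Subgroup G :=
    { carrier := {y | y ∈ Y ∧ s * y * s⁻¹ * y⁻¹ ∈ D.V}
      one_mem' := ⟨one_mem _, by simp⟩
      mul_mem' := fun {x y} hx hy => ⟨mul_mem hx.1 hy.1, by
        rw [show s * (x * y) * s⁻¹ * (x * y)⁻¹ = s * x * s⁻¹ * x⁻¹ * (x * (s * y * s⁻¹ * y⁻¹) * x⁻¹) by group]
        exact mul_mem hx.2 (nV x hx.1 _ hy.2)⟩
      inv_mem' := fun {x} hx => ⟨inv_mem hx.1, by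
        rw [show s * x⁻¹ * s⁻¹ * x⁻¹⁻¹ = x⁻¹ * (s * x * s⁻¹ * x⁻¹)⁻¹ * x⁻¹⁻¹ by group]
        exact nV _ (inv_mem hx.1) _ (inv_mem hx.2)⟩ }
  have hP : ∀ a ∈ Y, s * a * s⁻¹ * a⁻¹ ∈ P := fun a ha => ⟨mul_mem (ns a ha) (inv_mem ha), by
    rw [show s * (s * a * s⁻¹ * a⁻¹) * s⁻¹ = s * (s * a * s⁻¹) * s⁻¹ * (s * a * s⁻¹)⁻¹ by group, cj2, mul_inv_rev (_ * s⁻¹),
      inv_inv]
    exact sq _ (mul_mem ha (inv_mem (ns a ha)))⟩
  have k1 := Sect.index_le Y P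
    (fun a => if h : a ∈ Y then ((⟨_, hP a h⟩ : P) : P ⧸ D.V.subgroupOf P) else ((1 : P) : P ⧸ D.V.subgroupOf P))
    Set.univ (fun _ _ => trivial) fun x hx y hy e => by
      simp only [dif_pos hx, dif_pos hy, QuotientGroup.eq, mem_subgroupOf, coe_mul, coe_inv] at e
      refine ⟨mul_mem (inv_mem hx) hy, ?_⟩
      rw [show s * (x⁻¹ * y) * s⁻¹ * (x⁻¹ * y)⁻¹ = x⁻¹ * ((s * x * s⁻¹ * x⁻¹)⁻¹ * (s * y * s⁻¹ * y⁻¹)) * x⁻¹⁻¹ by group]
      exact nV _ (inv_mem hx) _ e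
  rw [Nat.card_univ] at k1
  change _ ≤ D.V.relIndex P at k1
  have k2 := card_mul_relIndex' (show P ≤ Y from fun x hx => hx.1)
  have k3 := card_mul_relIndex' (show D.V ≤ P from fun v hv =>
    ⟨H.VY hv, mul_mem (conj_mem_of_mem_normalizer (D.T1_norm h1) hv) (inv_mem hv)⟩)
  have k4 := card_le_of_comm (S := P) (Z := D.V ⊓ centralizer {s}) (v := s) fun y hy => by
    have e : y * s * y⁻¹ * s⁻¹ = (s * y * s⁻¹ * y⁻¹)⁻¹ := by group
    refine mem_inf.2 ⟨e ▸ inv_mem hy.2, Sect.mem_cent.2 (mul_inv_eq_iff_eq_mul.1 ?_).symm⟩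
    rw [show s * (y * s * y⁻¹ * s⁻¹) * s⁻¹ = s * y * s⁻¹ * (s * (s * y * s⁻¹) * s⁻¹)⁻¹ by group, cj2, e,
      inv_eq_of_mul_eq_one_right (D.E_sq (D.V_le_E hy.2))]
  have k5 := card_le_of_le (inf_le_inf_right (centralizer {s}) (show P ≤ Y from fun x hx => hx.1))
  have k6 := (H.free S hs).2
  have k7 := S.card_F H.toR2
  rw [D.card_V_inf h1, h3] at k4
  rw [D.card_V] at k3
  rw [hc] at k2 k6
  rw [← k7] at k2 k3 k6
  have r0 : 0 < Nat.card (fixA (D.σ φ)) := Nat.card_pos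
  generalize Nat.card (fixA (D.σ φ)) = r at *
  refine le_antisymm ((Nat.pow_le_pow_iff_left two_ne_zero).1 (k6.trans_eq (by ring))) ?_
  have k8 : r ^ 4 ≤ Nat.card P := (Nat.pow_le_pow_iff_left two_ne_zero).1 (by
    calc (r ^ 4) ^ 2 = Nat.card P * (r ^ 2 * P.relIndex Y) := by rw [mul_left_comm, k2]; ring
      _ ≤ Nat.card P * (r ^ 2 * D.V.relIndex P) := by gcongr
      _ = _ := by rw [k3, pow_two])
  exact Nat.le_of_mul_le_mul_right ((pow_succ r 3).ge.trans (k8.trans (k4.trans (Nat.mul_le_mul_right _ k5)))) r0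

/-- the case `T1 = ⟨t⟩` -/
theorem easy (hL : Top D.t L) (h1 : D.T1 = zpowers D.t) (hS : IsSylowIn 2 (Y ⊔ D.T1) ⊤)
    (no : ∀ y ∈ Y, ¬ IsConj D.t y) : D.t ∉ L ∧ IsSylowIn 2 Y L := by
  obtain ⟨l, l0, l1⟩ := D.big
  exact transfer_off hL hS le_sup_left (mem_sup_right D.tT1) D.tt (fun s hs => H.mem_t.1 (h1 ▸ hs))
    (fun g hg => no _ hg (isConj_iff.2 ⟨g, rfl⟩)) (D.η_odd l0) (fun s => conj_mem_of_mem_normalizer (H.η_norm l0))
    fun s hs e => H.fpf l0 l1 hs (mul_inv_eq_iff_eq_mul.1 e)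

/-- the case `T1` cyclic of order at least four -/
theorem not_cy (hL : Top D.t L) (S : D.Cy f b) (hS : IsSylowIn 2 (Y ⊔ D.T1) ⊤)
    (no : ∀ y ∈ Y, ¬ IsConj D.t y) : False := by
  obtain ⟨N, -, h1, h2⟩ := exists_index_two_of_cyclic (u := f) (m := b + 1) hS le_sup_left H.S_norm
    (mem_sup_right (S.eq ▸ mem_zpowers f)) S.ord (fun s hs => by
      obtain ⟨y, hy, z, hz, rfl⟩ := H.mem_S.1 hs
      obtain ⟨i, rfl⟩ := (mem_powers_iff_mem_zpowers (x := f)).2 (S.eq ▸ hz)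
      exact ⟨y, hy, i, rfl⟩) fun g _ hg => no _ hg (isConj_iff.2 ⟨g, by rw [S.pw]⟩)
  rw [relIndex_top_right] at h1
  obtain ⟨x, -, e⟩ := S.sq
  exact h2 ((hL.gen f).elim (fun h => hL.no2 N h1 h) fun h =>
    (mul_mem_cancel_left (e ▸ mul_self_mem_of_index_two h1 x)).1 (hL.no2 N h1 h))

theorem dec_S (S : D.Spl f φ b) {s : G} (hs : s ∈ Y ⊔ D.T1) : s ∈ Y ⊔ zpowers f ∨ D.t * s ∈ Y ⊔ zpowers f := by
  obtain ⟨y, hy, z, hz, rfl⟩ := H.mem_S.1 hs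
  obtain ⟨i, rfl | rfl⟩ := S.dec z hz
  · exact Or.inl (mul_mem_sup hy (pow_mem (mem_zpowers f) i))
  · rw [← mul_assoc y, ← mul_assoc D.t]
    exact Or.inr (mul_mem_sup (H.tyt hy) (pow_mem (mem_zpowers f) i))

theorem t_not_mem_f (S : D.Spl f φ b) : D.t ∉ Y ⊔ zpowers f := fun h => by
  rw [sup_comm, Sect.mem_sup_of_norm fun z hz y => conj_mem_of_mem_normalizer (H.T1_norm (zpowers_le.2 S.fT hz))] at h
  obtain ⟨z, hz, y, hy, e⟩ := h
  rw [H.eq_one hy ((mul_mem_cancel_left (zpowers_le.2 S.fT hz)).1 (e ▸ D.tT1)), mul_one] at e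
  exact S.tf (e ▸ hz)

/-- the split case when `t` is not fused outside `tY` -/
theorem off (hL : Top D.t L) (S : D.Spl f φ b) (hS : IsSylowIn 2 (Y ⊔ D.T1) ⊤)
    (no : ∀ s ∈ Y ⊔ D.T1, IsConj D.t s → D.t * s ∈ Y) :
    D.t ∉ L ∧ ∃ f' φ', D.Spl f' φ' b ∧ f' ∈ L ∧ (φ' = φ ∨ φ' = D.t * φ) ∧ IsSylowIn 2 (Y ⊔ zpowers f') L := by
  have ht : D.t ∉ L := not_mem_of_transfer hL D.tt hS (mem_sup_right D.tT1) (sup_le_sup_left (zpowers_le.2 S.fT) Y)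
    (fun s => H.dec_S S) fun g hg => H.t_not_mem_f S ((mul_mem_cancel_right hg).1 (mem_sup_left
      (no _ (sup_le_sup_left (zpowers_le.2 S.fT) Y hg) (isConj_iff.2 ⟨g, rfl⟩))))
  have key : ∀ f' φ', D.Spl f' φ' b → f' ∈ L → IsSylowIn 2 (Y ⊔ zpowers f') L := fun f' φ' S' h => by
    have le : Y ⊔ zpowers f' ≤ L := sup_le (H.le_L hL) (zpowers_le.2 h)
    rw [← show (Y ⊔ D.T1) ⊓ L = Y ⊔ zpowers f' from le_antisymm (fun s hs => (H.dec_S S' hs.1).resolve_right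
      fun e => ht ((mul_mem_cancel_right hs.2).1 (le e))) (le_inf (sup_le_sup_left (zpowers_le.2 S'.fT) Y) le)]
    exact syl_inf hL hS
  refine ⟨ht, (hL.gen f).elim (fun h => ⟨f, φ, S, h, Or.inl rfl, key _ _ S h⟩) fun h =>
    ⟨_, _, S.swap, h, ?_, key _ _ S.swap h⟩⟩
  split_ifs
  exacts [Or.inr rfl, Or.inl rfl]

/-- `S` is a Sylow subgroup if all conjugates of `t` in `S` are conjugate under `Y` -/
theorem sylS (h : ∀ s ∈ Y ⊔ D.T1, IsConj D.t s → ∃ y ∈ Y, s = y * D.t * y⁻¹) : IsSylowIn 2 (Y ⊔ D.T1) ⊤ := by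
  refine syl_of_fus H.syl H.pgS H.T_le fun g hg => ?_
  obtain ⟨y, hy, e⟩ := h _ (conj_mem_of_mem_normalizer hg (mem_sup_right D.tT1)) (isConj_iff.2 ⟨g, rfl⟩)
  exact ⟨y, mem_sup_left hy, e⟩

end Inv

theorem TA.noT (H : D.TA Y) {y : G} (hy : y ∈ Y) : ¬ IsConj D.t y := by
  exact fun h => H.nV y (H.om y hy (TL2.sq_of_isConj h D.tt)) h

namespace TB

variable (H : D.TB Y)
include H

theorem ab {x y : G} (hx : x ∈ Y) (hy : y ∈ Y) : x * y = y * x := by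
  exact Sect.comm_of_sq H.el hx hy

theorem noT {y : G} (hy : y ∈ Y) : ¬ IsConj D.t y := by
  intro h
  have h1 := H.elem_le' h (fun x hx => Sect.mem_cent.2 (H.ab hx hy)) H.el
  have h2 := D.four_le
  rw [H.card] at h1
  nlinarith

theorem cls {y : G} (hy : y ∈ Y) (h : D.t * y * (D.t * y) = 1) : ∃ z ∈ Y, D.t * y = z * D.t * z⁻¹ := by
  have h1 : y * D.t = D.t * y := by
    rw [mul_assoc, mul_eq_one_iff_inv_eq, D.t_inv, ← inv_mul_eq_iff_eq_mul, inv_eq_of_mul_eq_one_right (H.el y hy)] at h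
    exact h
  have h2 := card_mul_relIndex' H.VY
  rw [H.card, D.card_V, pow_two] at h2
  obtain ⟨z, hz, e⟩ := Sect.exists_of_index Y D.V (fun a => a * D.t * a⁻¹ * D.t⁻¹) D.V (fun a ha => by
      have h3 : a * D.t * a⁻¹ * D.t⁻¹ ∈ Y := by
        rw [mul_assoc, mul_assoc, ← mul_assoc D.t]
        exact mul_mem ha (conj_mem_of_mem_normalizer H.nt (inv_mem ha))
      refine H.ct _ h3 ?_
      nth_rewrite 2 [← inv_eq_of_mul_eq_one_right (H.el _ h3)]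
      simp only [mul_inv_rev, inv_inv, D.t_inv, ← mul_assoc, D.tt, one_mul]
      rw [mul_assoc, D.tt, mul_one])
    (fun a ha b hb e => H.ct _ (mul_mem (inv_mem ha) hb) (Sect.comm_fib' e))
    (by rw [Nat.eq_of_mul_eq_mul_left Nat.card_pos h2]; exact D.card_V.le) (H.ct y hy h1)
  exact ⟨z, hz, by rw [← h1, ← e, inv_mul_cancel_right]⟩

theorem card_c (S : D.Spl f φ b) {s : G} (hs : s = D.t ∨ s = φ ∨ s = D.t * φ) :
    Nat.card ↥(Y ⊓ centralizer {s}) = Nat.card F := by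
  rcases hs with rfl | hs
  · rw [H.inf_t, D.card_V]
  obtain ⟨h1, h2, -⟩ := S.φ' H.toR2 hs
  have h3 := (H.free S hs).2
  have h4 := card_le_sq H.el (H.T1_norm h1) (h2 ▸ one_mem _)
  rw [H.card] at h3 h4
  exact Nat.pow_left_injective two_ne_zero (le_antisymm h3 h4)

theorem card_cc (S : D.Spl f φ b) :
    Nat.card ↥(Y ⊓ centralizer {D.t} ⊓ centralizer {φ}) = Nat.card (fixA (D.σ φ)) := by
  rw [H.inf_t, D.card_V_inf S.φT]

/-- `Y` is self-centralising in every 2-group that contains `t` and normalises `Y` -/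
theorem self {R : Subgroup G} (hR : IsPGroup 2 R) (hT : D.T ≤ R) (hY : Y ≤ R) (hn : R ≤ normalizer (Y : Set G))
    {x : G} (hx : x ∈ R) (hc : x ∈ centralizer (Y : Set G)) : x ∈ Y := by
  have ht : D.t ∈ R := hT (mem_sup_right D.tT1)
  refine U3S.mem_of_fus (T := D.T) (C := R ⊓ centralizer (Y : Set G)) hR D.tt ht
    (le_inf hY fun a ha b hb => H.ab hb ha) inf_le_left (fun s hs y => conj_mem_of_mem_normalizer (hn hs))
    (fun c hc => mem_inf.2 ⟨mul_mem (mul_mem ht hc.1) ht, ?_⟩) (fun s => H.mem_T hR hT) (fun y hy h => ?_)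
    (fun c hc h => ?_) ⟨hx, hc⟩
  · nth_rewrite 2 [← D.t_inv]
    rw [← mem_normalizer_iff_cj.1 H.nt, ← cj_centralizer, conj_mem_cj]
    exact hc.2
  · obtain ⟨z, hz, e⟩ := H.cls hy h
    exact ⟨z, hz, e.symm⟩
  · refine H.VY ((D.mem_E'.1 (H.toR2.mem_E h fun v hv => hc.2 v (H.VY hv))).resolve_right fun e => ?_)
    have h1 : D.t ∈ centralizer (Y : Set G) := (mul_mem_cancel_right (mem_inf.1 hc).2).1 fun a ha => H.ab ha (H.VY e)
    have h2 := card_le_of_le (show Y ≤ D.V from fun y hy => H.ct y hy (h1 y hy))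
    have h3 := D.four_le
    rw [H.card, D.card_V] at h2
    nlinarith

end TB

namespace TC

variable {a c : F} {π : G → F × F} {j : F → G} (H : D.TC Y a c π j)
include H

theorem card : Nat.card Y = Nat.card F ^ 3 := by
  rw [card_eq_of_hom π H.VY H.πadd H.πker H.πsurj, D.card_V, Nat.card_prod]
  ring

theorem sq_mem {y : G} (hy : y ∈ Y) : y * y ∈ D.V := by
  exact (H.jV _).2 ⟨_, (H.sq y hy).symm⟩

theorem j_mem (w : F) : j w ∈ D.V := (H.jV _).2 ⟨w, rfl⟩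

theorem j_eq_one {w : F} : j w = 1 ↔ w = 0 := by
  have h := H.jadd 0 0
  rw [add_zero] at h
  rw [← mul_eq_left.1 h.symm, H.jinj.eq_iff]

theorem cm {x y : G} (hx : x ∈ Y) (hy : y ∈ Y) :
    x * y * x⁻¹ * y⁻¹ = j (c * ((π x).1 * (π y).2 + (π x).2 * (π y).1)) := by
  have i : ∀ x ∈ Y, x⁻¹ = x * (x * x) := fun x hx =>
    inv_eq_of_mul_eq_one_right (by rw [← mul_assoc]; exact D.E_sq (D.V_le_E (H.sq_mem hx)))
  have h1 : x * y * x⁻¹ * y⁻¹ = x * y * (x * y) * (x * x * (y * y)) := by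
    rw [i x hx, i y hy, ← mul_assoc (x * y) x, mul_assoc _ (x * x), ← mul_assoc (x * x),
      ← H.cen _ (H.sq_mem hx) y hy]
    simp only [mul_assoc]
  rw [h1, H.sq _ (mul_mem hx hy), H.sq x hx, H.sq y hy, H.πadd x hx y hy, ← H.jadd, ← H.jadd]
  congr 1
  simp only [Prod.fst_add, Prod.snd_add]
  linear_combination ((π x).1 * (π x).1 + c * (π x).1 * (π x).2 + a * (π x).2 * (π x).2 + (π y).1 * (π y).1 +
    c * (π y).1 * (π y).2 + a * (π y).2 * (π y).2 + (π x).1 * (π y).1 + a * (π x).2 * (π y).2) * D.two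

/-- an involution of `Y` outside `V` -/
theorem out {y : G} (hy : y ∈ Y) (yy : y * y = 1) (hV : y ∉ D.V) :
    (∀ x ∈ Y, x * y = y * x → x * x = 1) ∧ Nat.card ↥(Y ⊓ centralizer {y}) = Nat.card F ^ 2 ∧
      ∀ v ∈ D.V, ∃ x ∈ Y, x * y * x⁻¹ * y⁻¹ = v := by
  have h0 : (π y).1 ≠ 0 ∨ (π y).2 ≠ 0 := by
    by_contra h
    push Not at h
    exact hV ((H.πker y hy).1 (Prod.ext h.1 h.2))
  have h3 : ∀ v ∈ D.V, ∃ x ∈ Y, x * y * x⁻¹ * y⁻¹ = v := fun v hv => by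
    obtain ⟨w, rfl⟩ := (H.jV v).1 hv
    have := H.b0
    rcases h0 with h | h
    · obtain ⟨x, hx, e⟩ := H.πsurj (0, w / (c * (π y).1))
      exact ⟨x, hx, by rw [H.cm hx hy, e]; congr 1; field_simp; ring⟩
    · obtain ⟨x, hx, e⟩ := H.πsurj (w / (c * (π y).2), 0)
      exact ⟨x, hx, by rw [H.cm hx hy, e]; congr 1; field_simp; ring⟩
  refine ⟨fun x hx h => ?_, ?_, h3⟩
  · have h1 := H.cm hx hy
    rw [h, mul_inv_cancel_right, mul_inv_cancel, eq_comm, H.j_eq_one, mul_eq_zero_iff_left H.b0] at h1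
    replace h1 := D.eq_of_add h1
    rw [H.sq y hy, H.j_eq_one] at yy
    rw [H.sq x hx, H.j_eq_one]
    rcases h0 with h | h
    · refine (mul_eq_zero_iff_left (mul_ne_zero h h)).1 ?_
      linear_combination (π x).1 * (π x).1 * yy -
        (c * (π x).1 * (π y).1 + a * ((π x).1 * (π y).2 + (π x).2 * (π y).1)) * h1
    · refine (mul_eq_zero_iff_left (mul_ne_zero h h)).1 ?_
      linear_combination (π x).2 * (π x).2 * yy + ((π x).1 * (π y).2 + (π x).2 * (π y).1 + c * (π x).2 * (π y).2) * h1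
  · have h := card_eq_of_comm (S := Y) (fun x hx => H.cm hx hy ▸ H.j_mem _) h3
    rw [H.card, D.card_V, pow_succ] at h
    exact (Nat.eq_of_mul_eq_mul_right Nat.card_pos h).symm

theorem noncomm : ∃ x ∈ Y, ∃ y ∈ Y, x * y ≠ y * x := by
  obtain ⟨x, hx, e⟩ := H.πsurj (1, 0)
  obtain ⟨y, hy, e'⟩ := H.πsurj (0, 1)
  refine ⟨x, hx, y, hy, fun h => H.b0 ?_⟩
  have h1 := H.cm hx hy
  rw [h, mul_inv_cancel_right, mul_inv_cancel, eq_comm, H.j_eq_one, e, e'] at h1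
  simpa using h1

theorem noT {y : G} (hy : y ∈ Y) : ¬ IsConj D.t y := by
  intro h
  by_cases hV : y ∈ D.V
  · exact H.nV y hV h
  obtain ⟨h1, h2, -⟩ := H.out hy (TL2.sq_of_isConj h D.tt) hV
  have h3 := H.elem_le' h (X := Y ⊓ centralizer {y}) inf_le_right fun x hx => h1 x hx.1 (Sect.mem_cent.1 hx.2)
  have h4 := D.four_le
  rw [h2] at h3
  nlinarith

theorem cls {y : G} (hy : y ∈ Y) (h : D.t * y * (D.t * y) = 1) : ∃ z ∈ Y, D.t * y = z * D.t * z⁻¹ := by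
  exact cls_of_cube D.tt H.nt H.VY (fun y hy => ⟨H.ct y hy, D.t_cent y⟩) (fun y => H.sq_mem) H.cen
    (by rw [H.card, D.card_V]) hy h

end TC

end Fr

end CfsgLib.GMS
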