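import Mathlib
import Cfsg.Agent.Lib.GMS.Ex0A
import Cfsg.Agent.Lib.GMS.Ex0B

/-! Standard subgroups of type `L₂(2^a)` (plans/GMS.md, package EX0). -/

set_option autoImplicit false
set_option linter.unusedSectionVars false

namespace CfsgLib.GMS

open Subgroup Cfsg CfsgLib.Tech CfsgLib.SzS
open scoped MatrixGroups

variable {F : Type*} [Field F] [Finite F] {G : Type*} [Group G] [Finite G]

section acts

variable {W : Subgroup G} {p : G → V3} {g h : G} {m m' : V3 → V3}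

theorem ex0_mul (h1 : Acts W p g m) (h2 : Acts W p h m') (hn : h ∈ normalizer (W : Set G)) :
    Acts W p (g * h) (m ∘ m') := fun w hw => by
  rw [Function.comp_apply, ← h2 w hw, ← h1 _ (conj_mem_of_mem_normalizer hn hw)]
  congr 1; group

theorem ex0_congr (h1 : Acts W p g m) (e : ∀ x, m x = m' x) : Acts W p g m' := fun w hw => (h1 w hw).trans (e _)

theorem ex0_sq (h1 : Acts W p g m) (hn : g ∈ normalizer (W : Set G)) :
    Acts W p (g ^ 4) (m ∘ m ∘ m ∘ m) := by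
  rw [show g ^ 4 = g * (g * (g * g)) by simp only [pow_succ, pow_zero, one_mul, mul_assoc]]
  exact ex0_mul h1 (ex0_mul h1 (ex0_mul h1 h1 hn) (mul_mem hn hn)) (mul_mem hn (mul_mem hn hn))

theorem ex0_th (h1 : Acts W p g th) (hn : g ∈ normalizer (W : Set G)) (k : ℕ) : Acts W p (g ^ 4 ^ k) th := by
  induction k with
  | zero => rwa [pow_zero, pow_one]
  | succ k ih => rw [pow_succ, pow_mul]; exact ex0_congr (ex0_sq ih (pow_mem hn _)) (by decide)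

/-- the elements inducing unitriangular maps -/
def ex0U {N : Subgroup G} (p : G → V3) (hN : N ≤ normalizer (W : Set G)) : Subgroup G where
  carrier := {g | g ∈ N ∧ ∃ α β γ, Acts W p g (ut α β γ)}
  one_mem' := ⟨one_mem _, 0, 0, 0, fun w _ => by simp [ut_zero]⟩
  mul_mem' := by
    rintro a b ⟨ha, α, β, γ, h1⟩ ⟨hb, α', β', γ', h2⟩
    exact ⟨mul_mem ha hb, _, _, _, ex0_congr (ex0_mul h1 h2 (hN hb)) (ut_ut _ _ _ _ _ _)⟩
  inv_mem' := by
    rintro a ⟨ha, α, β, γ, h1⟩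
    refine ⟨inv_mem ha, α, β, γ + α * β, fun w hw => ?_⟩
    have h2 := h1 _ (conj_mem_of_mem_normalizer (hN (inv_mem ha)) hw)
    rw [show a * (a⁻¹ * w * a⁻¹⁻¹) * a⁻¹ = w by group] at h2
    rw [h2]
    exact ((utE α β γ).left_inv _).symm

theorem ex0_ut_inj {α β γ α' β' γ' : ZMod 2} (h : ∀ x, ut α β γ x = ut α' β' γ' x) :
    (α, β, γ) = (α', β', γ') := by
  revert α β γ α' β' γ'; decide

end acts

open CfsgLib.TL2 in
theorem Fr.Exc.xc {D : Fr F G} {A L W : Subgroup G} {e : ℕ} {π : TL2.Nt D.t W →* Equiv.Perm F}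
    (H : D.Exc W e π) (K : D.Glob A L) : ∃ N S n p j θ, Xc D.t L W N S n p j θ := by
  have := Fintype.ofFinite F
  have w := H.tp
  obtain ⟨κ, κ1, full, ⟨f, ⟨⟨g0, hg0⟩, rfl⟩, f0, hf⟩, hM⟩ := aff_full H.aff
  obtain ⟨O, hO, cO⟩ := H.ex0_comm hM
  obtain ⟨n, hn⟩ := H.ex0_pow
  have tL := H.ex0_tL K
  have WL := H.toInv.le_L K.top
  have tX : D.t ∈ W ⊔ zpowers D.t := mem_sup_right (mem_zpowers _)
  have tN : D.t ∈ Nt D.t W := (w.X_le tX).1
  have WN : W ≤ Nt D.t W ⊓ L := fun x hx => ⟨(w.X_le (mem_sup_left hx)).1, WL hx⟩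
  have nW : Nt D.t W ⊓ L ≤ normalizer (W : Set G) := fun x hx => hx.1.1
  have XL : ∀ x ∈ W ⊔ zpowers D.t, x ∈ L → x ∈ W := fun x hx h =>
    (w.memX.1 hx).resolve_right fun a => tL ((mul_mem_cancel_right h).1 (WL a))
  obtain ⟨p, hp⟩ : ∃ p : G → V3, p = fun x => κ (ex0P D e x) := ⟨_, rfl⟩
  have acts := fun {g} hg {m} => hp ▸ H.ex0_acts κ (g := g) hg (m := m)
  have aid := fun {g} hg => hp ▸ H.ex0_id κ (g := g) hg
  have surj : ∀ x, ∃ y ∈ W, p y = x := fun x => by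
    obtain ⟨y, hy, h⟩ := H.ex0_surj (κ.symm x)
    exact ⟨y, hy, by rw [hp]; simp [h]⟩
  have lift : ∀ g (hg : g ∈ Nt D.t W), ∃ h, ∃ hh : h ∈ Nt D.t W ⊓ L, π ⟨h, hh.1⟩ = π ⟨g, hg⟩ := fun g hg =>
    (K.top.gen g).elim (fun a => ⟨g, ⟨hg, a⟩, rfl⟩) fun a => ⟨_, ⟨mul_mem tN hg, a⟩, by
      rw [pi_mul tN hg, w.triv tX, one_mul]⟩
  have full' : ∀ m : V3 ≃+ V3, ∃ g ∈ Nt D.t W ⊓ L, Acts W p g m := fun m => by
    obtain ⟨_, ⟨⟨g, hg⟩, rfl⟩, h⟩ := full m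
    obtain ⟨g', hg', e'⟩ := lift g hg
    exact ⟨g', hg', (acts hg'.1).2 (e' ▸ h)⟩
  have Wid : ∀ x ∈ W, Acts W p x id := fun x hx => (aid (WN hx).1).2 (w.triv (mem_sup_left hx) _)
  obtain ⟨S, hS, WS⟩ := exists_isSylowIn_ge (H := ex0U p nW) H.pg fun x hx =>
    ⟨WN hx, 0, 0, 0, ut_zero.symm ▸ Wid x hx⟩
  have SN : S ≤ Nt D.t W ⊓ L := fun x hx => (hS.le hx).1
  have odd : ∀ g (hg : g ∈ ex0U p nW), Odd (orderOf g) → π ⟨g, hg.1.1⟩ = 1 := by
    rintro g ⟨hg, α, β, γ, h⟩ ho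
    have h1 := (aid (pow_mem hg.1 4)).1 (ex0_congr (m' := id) (ex0_sq h (nW hg)) (by
      clear h; revert α β γ; decide))
    replace h1 : π ⟨g, hg.1⟩ ^ 2 ^ 2 = 1 := by rw [← map_pow]; exact h1
    exact ex0_eq_one (isPGroup_zpowers_of_pow h1)
      (ho.of_dvd_nat ((orderOf_map_dvd π _).trans (orderOf_mk _ _).dvd))
  have two : ∀ g ∈ ex0U p nW, IsPGroup 2 (zpowers g) → g ∈ S := by
    intro g hg h2
    obtain ⟨c, hc, h3⟩ := hS.exists_conj_mem hg h2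
    obtain ⟨u, hu, r, hr, rfl⟩ := Transfer.exists_mul_pResidual_of_isSylowIn hS hc
    rw [Transfer.map_pResidual_eq_closure] at hr
    have h4 := cO g hg.1.1 h2 r ((closure_le O).2 (fun y hy => hO y hy.1.1.1
      (odd y hy.1 (Nat.coprime_two_right.1 hy.2)) (Nat.coprime_two_right.1 hy.2)) hr)
    rw [mul_assoc u, h4, show u * (g * r) * (u * r)⁻¹ = u * g * u⁻¹ by group] at h3
    exact (mul_mem_cancel_left hu).1 ((mul_mem_cancel_right (inv_mem hu)).1 h3)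
  have utX : ∀ α β γ, ∃ s ∈ S, Acts W p s (ut α β γ) := fun α β γ => by
    obtain ⟨g, hg, h⟩ := full' (utE α β γ)
    have h1 : zpowers g ≤ ex0U p nW := zpowers_le.2 ⟨hg, α, β, γ, h⟩
    obtain ⟨a, b, ha, hb, ⟨k, hk⟩, ho, e'⟩ := Transfer.exists_p_part (p := 2) g
    refine ⟨a, two a (h1 ha) (isPGroup_zpowers_of_pow hk), (acts (h1 ha).1.1).2 ?_⟩
    have h2 : π ⟨a, (h1 ha).1.1⟩ = π ⟨g, hg.1⟩ := by
      rw [← mul_one (π ⟨a, _⟩), ← odd b (h1 hb) (Nat.coprime_two_right.1 ho), ← pi_mul]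
      congr 2; exact e'.symm
    rw [h2]
    exact (acts hg.1).1 h
  have coc : ∀ g ∈ Nt D.t W, D.t * g * D.t * g⁻¹ = D.t⁻¹ * (g * D.t * g⁻¹) := fun g _ => by
    rw [D.t_inv]; simp only [mul_assoc]
  have tS : D.t ∈ normalizer (S : Set G) := mem_normalizer_of_forall fun s hs => by
    have := mul_mem (WS (SN hs).1.2) hs
    rwa [inv_eq_of_mul_eq_one_right D.tt, mul_assoc, inv_mul_cancel_right, ← mul_assoc,
      ← congrArg (D.t * s * ·) D.t_inv] at this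
  have mY : ∀ {x}, x ∈ S ⊔ zpowers D.t ↔ x ∈ S ∨ D.t * x ∈ S := mem_sup_zpowers tS (D.tt ▸ one_mem S)
  have pY : IsPGroup 2 ↥(S ⊔ zpowers D.t) :=
    hS.pgroup.to_sup_of_normal_left' (isPGroup_two_zpowers D.tt) (zpowers_le.2 tS)
  have YN : S ⊔ zpowers D.t ≤ Nt D.t W := sup_le (fun x hx => (SN hx).1) (zpowers_le.2 tN)
  have XY : W ⊔ zpowers D.t ≤ S ⊔ zpowers D.t := sup_le_sup_right WS _
  obtain ⟨_, ⟨⟨r, hr⟩, rfl⟩, r0⟩ := H.aff.mov
  have orb := fun Y (hY : IsSylowIn 2 Y (Nt D.t W)) hX =>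
    w.orb le_rfl (fun g hg m hm => mul_mem (mul_mem hg hm) (inv_mem hg)) hr r0 hY hX
  have hY : IsSylowIn 2 (S ⊔ zpowers D.t) (Nt D.t W) := by
    obtain ⟨Y, hY, h1⟩ := exists_isSylowIn_ge pY YN
    refine hY.of_card_le pY YN ?_
    choose s hs ha using utX
    have h2 : ∀ b : Bool, (if b then D.t else 1) ∈ S ⊔ zpowers D.t := fun b => by
      cases b
      exacts [one_mem _, mem_sup_right (mem_zpowers _)]
    have h3 := Nat.card_le_card_of_injective (fun x : W × Bool × ZMod 2 × ZMod 2 × ZMod 2 =>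
      (⟨_, mul_mem (h2 x.2.1) (mem_sup_left (mul_mem (hs x.2.2.1 x.2.2.2.1 x.2.2.2.2) (WS x.1.2)))⟩ :
        ↥(S ⊔ zpowers D.t))) (by
      rintro ⟨⟨x, hx⟩, b, α, β, γ⟩ ⟨⟨x', hx'⟩, b', α', β', γ'⟩ h
      replace h : (if b then D.t else 1) * (s α β γ * x) = (if b' then D.t else 1) * (s α' β' γ' * x') :=
        congrArg Subtype.val h
      have m1 : _ ∈ L := (SN (mul_mem (hs α β γ) (WS hx))).2
      have m2 : _ ∈ L := (SN (mul_mem (hs α' β' γ') (WS hx'))).2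
      obtain rfl : b = b' := by
        cases b <;> cases b' <;> simp only [Bool.false_eq_true, if_false, if_true, one_mul] at h
        · rfl
        · exact (tL ((mul_mem_cancel_right m2).1 (h ▸ m1))).elim
        · exact (tL ((mul_mem_cancel_right m1).1 (h ▸ m2))).elim
        · rfl
      replace h := mul_left_cancel h
      have h4 := ex0_ut_inj (α := α) (β := β) (γ := γ) (α' := α') (β' := β') (γ' := γ') fun v => by
        obtain ⟨y, hy, rfl⟩ := surj v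
        have a1 := ex0_mul (ha α β γ) (Wid x hx) (le_normalizer hx) y hy
        have a2 := ex0_mul (ha α' β' γ') (Wid x' hx') (le_normalizer hx') y hy
        rw [h] at a1
        exact a1.symm.trans a2
      obtain ⟨rfl, rfl, rfl⟩ : α = α' ∧ β = β' ∧ γ = γ' := by simpa using h4
      obtain rfl := mul_left_cancel h
      rfl)
    rw [(orb Y hY (XY.trans h1)).2, D.card_E, H.card]
    simpa using h3
  obtain ⟨ho, hc⟩ := orb _ hY XY
  have hT := ex0_hT w H.aff H.ntr hY XY hc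
  have hG : IsSylowIn 2 (S ⊔ zpowers D.t) ⊤ := w.cs.syl_of pY (w.T_le.trans XY) fun x hx => by
    have c := isConj_cj x D.t
    obtain ⟨y, hy, e'⟩ := ho _ (w.memtP (hT _ (conj_mem_of_mem_normalizer hx (XY tX)) c) c)
    exact ⟨y, hy, by rw [e', w.cs.tt]⟩
  have hSL : (S ⊔ zpowers D.t) ⊓ L = S := le_antisymm (fun x hx => (mY.1 hx.1).resolve_right fun a =>
    tL ((mul_mem_cancel_right hx.2).1 (SN a).2)) (le_inf le_sup_left fun x hx => (SN hx).2)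
  obtain ⟨y, hy, c⟩ := w.fix hg0 f0
  have hyg := mul_mem (WN hy).1 hg0
  obtain ⟨k, m, hm, e1⟩ := Nat.exists_eq_two_pow_mul_odd (orderOf_pos (y * g0)).ne'
  have θo : Odd (orderOf ((y * g0) ^ 4 ^ k)) := hm.of_dvd_nat (orderOf_dvd_of_pow_eq_one (by
    rw [← pow_mul, show 4 ^ k * m = 2 ^ k * m * 2 ^ k by rw [show 4 = 2 * 2 from rfl, mul_pow]; ring, ← e1, pow_mul,
      pow_orderOf_eq_one, one_pow]))
  refine ⟨Nt D.t W ⊓ L, S, n, p, fun v => D.ι (κ.symm v), (y * g0) ^ 4 ^ k, K.top, D.tt, tL, hSL ▸ syl_inf K.top hG,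
    WS, SN, inf_le_right, nW, fun a ha b hb => w.comm ha hb, fun x hx => by rw [mul_assoc, w.inv hx, w.cs.tt],
    fun a ha b hb => ?_, fun x hx => ?_, surj, fun x hx => ?_, D.inj.comp κ.symm.injective, fun x hx => ?_, full',
    fun s hs => (hS.le hs).2, utX, fun s hs h => ?_, fun g hg h2 α β γ h => two g ⟨hg, α, β, γ, h⟩ h2,
    fun g hg => coc g hg.1 ▸ hg.1.2, fun g hg h1 h2 x hx h => ?_, fun s hs c => ?_,
    ⟨pow_mem hyg _, mem_of_odd K.top θo⟩, c.pow_left _, θo, ex0_th ((acts hyg).2 fun a => ?_) hyg.1 k,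
    fun x hx h1 h2 h3 => ?_⟩
  · simp only [hp, ← map_add]
    congr 1
    exact D.inj (by rw [D.add, H.ex0_ι ha, H.ex0_ι hb, H.ex0_ι (mul_mem ha hb), (w.comm ha hb).mul_pow])
  · simp only [hp, map_eq_zero_iff κ κ.injective]
    rw [← D.ι_eq_one, H.ex0_ι hx]
    refine ⟨fun h => (w.ker x hx h).imp fun v hv => ⟨hv.1, hv.2.symm⟩, ?_⟩
    rintro ⟨v, hv, rfl⟩
    rw [(Commute.refl v).mul_pow, w.el.sqV (w.mem v hv)]
  · simp only [hp, AddEquiv.symm_apply_apply]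
    rw [H.ex0_ι hx, hn x hx]
  · refine ⟨fun h => ?_, ?_⟩
    · obtain ⟨a, rfl⟩ := w.memV hx h
      exact ⟨κ a, by rw [κ.symm_apply_apply]⟩
    · rintro ⟨v, rfl⟩
      exact D.ιι _
  · exact XL s (w.stab pY XY (SN hs).1 (mem_sup_left hs) (by rw [(aid (SN hs).1).1 h, Equiv.Perm.one_apply])) (SN hs).2
  · simp only [hp, ← map_add, κ.injective.eq_iff] at h
    rw [H.ex0_conj hg.1 hx, show ex0P D e (D.t * g * D.t * g⁻¹) = π ⟨g, hg.1⟩ 0 from D.inj (by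
      rw [w.spec0, coc g hg.1, H.ex0_ι hg.1.2])] at h
    refine H.aff.mov_of_inv ⟨_, rfl⟩ (fun a => h1 ((aid hg.1).2 a)) (by
      rw [← pi_mul]; exact (aid (mul_mem hg.1 hg.1)).1 h2) (ex0P D e x) (D.eq_of_add ?_)
    linear_combination -h
  · have := w.memtP (hT _ (mul_mem (XY tX) (mem_sup_left hs)) c) c
    rwa [w.cs.tt] at this
  · rw [pi_mul (WN hy).1 hg0, w.triv (mem_sup_left hy), one_mul, f0, add_zero, hf]
  · rw [← κ1, κ.symm_apply_apply] at h2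
    obtain ⟨a, rfl⟩ := (D.mem_E'.1 (H.ex0_ct h1 h2 h3)).resolve_right fun a =>
      tL ((mul_mem_cancel_right hx).1 (WL (H.VY a)))
    exact ⟨κ a, by rw [κ.symm_apply_apply]⟩

end CfsgLib.GMS
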