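import Mathlib
import Cfsg.Agent.Lib.GMS.Fld

/-! Standard subgroups of type `L₂(2^a)` (plans/GMS.md, package AFF). -/

set_option autoImplicit false
set_option linter.unusedSectionVars false

namespace CfsgLib.GMS

open Subgroup Cfsg CfsgLib.Tech CfsgLib.SzS
open scoped MatrixGroups

variable {F : Type*} [Field F] [Finite F] {G : Type*} [Group G] [Finite G]

/-- involutions with a fixed point -/
structure AffI (A : Subgroup (Equiv.Perm F)) (s : Equiv.Perm F) : Prop where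
  mem : s ∈ A
  ne : s ≠ 1
  sq : s * s = 1
  fix : ∃ x, s x = x

theorem aff_app {s : Equiv.Perm F} (h : s * s = 1) (x : F) : s (s x) = x := by
  rw [← Equiv.Perm.mul_apply, h, Equiv.Perm.one_apply]

theorem AffI.conj {A : Subgroup (Equiv.Perm F)} {s k : Equiv.Perm F} (h : AffI A s) (hk : k ∈ A) :
    AffI A (k * s * k⁻¹) :=
  ⟨mul_mem (mul_mem hk h.mem) (inv_mem hk), fun e => h.ne (by simpa using e), by rw [conj_mul, h.sq]; group,
    h.fix.elim fun x hx => ⟨k x, by simp [hx]⟩⟩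

theorem AffI.conj' {A : Subgroup (Equiv.Perm F)} {s k : Equiv.Perm F} (h : AffI A s) (hk : k ∈ A) :
    AffI A (k⁻¹ * s * k) := by
  simpa using h.conj (inv_mem hk)

namespace Aff0

open TL2.AffB MulAction

variable [Fintype F] {A : Subgroup (Equiv.Perm F)} (h : Aff0 A)
include h

theorem add_self (a : F) : a + a = 0 := by rw [← two_mul, h.two, zero_mul]

theorem card_pow : ∃ n : ℕ, n ≠ 0 ∧ Fintype.card F = 2 ^ n := by
  have := CharTwo.of_one_ne_zero_of_two_eq_zero one_ne_zero h.two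
  obtain ⟨n, -, e⟩ := FiniteField.card F 2
  exact ⟨n, n.ne_zero, e⟩

theorem sc_mem (l : F) (hl : l ≠ 0) : sc l hl ∈ A := by
  obtain ⟨f, hf, e⟩ := h.scal l hl
  rwa [← show f = sc l hl from Equiv.ext e]

theorem tr0 (a : F) : ∃ k ∈ A, k 0 = a := by
  by_cases ha : a = 0
  · exact ⟨1, one_mem _, ha.symm⟩
  obtain ⟨f, hf, e⟩ := h.mov
  exact ⟨sc (a / f 0) (div_ne_zero ha e) * f, mul_mem (h.sc_mem _ _) hf, div_mul_cancel₀ a e⟩

theorem tr2 {a b : F} (hab : a ≠ b) : ∃ k ∈ A, k 0 = a ∧ k 1 = b := by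
  obtain ⟨k, hk, rfl⟩ := h.tr0 a
  have e : k⁻¹ b ≠ 0 := fun e => hab (by rw [← e]; simp)
  exact ⟨k * sc _ e, mul_mem hk (h.sc_mem _ _), by simp [sc_apply], by simp [sc_apply]⟩

/-- the linear part -/
def lin : A →* AddMonoid.End F where
  toFun f := AddMonoidHom.mk' (fun v => f.1 v + f.1 0) fun a b => by
    rw [h.aff _ f.2]; linear_combination -h.add_self (f.1 0)
  map_one' := AddMonoidHom.ext fun v => add_zero v
  map_mul' f g := AddMonoidHom.ext fun v => (h.aff _ f.2 (g.1 v) (g.1 0)).symm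

theorem lin_apply (f : A) (v : F) : h.lin f v = f.1 v + f.1 0 := rfl

theorem eq_one_of_lin {f : A} (e : ∀ v, h.lin f v = v) : f = 1 :=
  Subtype.ext (h.ntr _ f.2 fun a => by
    linear_combination (h.lin_apply f a).symm.trans (e a) - h.add_self (f.1 0))

theorem normal_two {N : Subgroup A} (hN : N.Normal) (h2 : IsPGroup 2 N) : N = ⊥ := by
  let q : A →* Equiv.Perm F := (toPermHom (AddMonoid.End F)ˣ F).comp h.lin.toHomUnits
  have hq : ∀ f v, q f v = h.lin f v := fun _ _ => rfl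
  obtain ⟨n, hn, e⟩ := h.card_pow
  obtain ⟨v, hv, h0⟩ := (h2.map q).exists_fixed_point_of_prime_dvd_card_of_fixed_point F
    (by rw [Nat.card_eq_fintype_card, e]; exact dvd_pow_self 2 hn) (a := 0) (by
      rintro ⟨_, f, -, rfl⟩
      exact map_zero (h.lin f))
  refine eq_bot_iff.2 fun f hf => mem_bot.2 (h.eq_one_of_lin fun x => ?_)
  by_cases hx : x = 0
  · rw [hx, map_zero]
  have hl := div_ne_zero hx h0.symm
  have h3 : h.lin _ v = v := hv ⟨_, _, hN.conj_mem' f hf ⟨_, h.sc_mem _ hl⟩, rfl⟩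
  change (x / v)⁻¹ * f.1 (x / v * v) + (x / v)⁻¹ * f.1 (x / v * 0) = v at h3
  rw [div_mul_cancel₀ _ h0.symm, mul_zero, ← mul_add, inv_mul_eq_iff_eq_mul₀ hl,
    div_mul_cancel₀ _ h0.symm] at h3
  exact h3

theorem exists_aut {f k : Equiv.Perm F} (hf : f ∈ A) (hk : k ∈ A) (h0 : f (k 0) = k 0) (h1 : f (k 1) = k 1) :
    ∃ σ : F ≃+* F, f = k * RingAut.toPerm F σ * k⁻¹ := by
  obtain ⟨c, σ, e⟩ := h.semi (k⁻¹ * f * k) (mul_mem (mul_mem (inv_mem hk) hf) hk) (by simp [h0])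
  have : c = 1 := by simpa [h1] using (e 1).symm
  refine ⟨σ, ?_⟩
  rw [show RingAut.toPerm F σ = k⁻¹ * f * k from Equiv.ext fun a => by rw [e, this, one_mul]; rfl]
  group

/-- two-point stabilisers are abelian -/
theorem comm {f g : Equiv.Perm F} {a b : F} (hab : a ≠ b) (hf : f ∈ A) (hg : g ∈ A) (fa : f a = a) (fb : f b = b)
    (ga : g a = a) (gb : g b = b) : f * g = g * f := by
  obtain ⟨k, hk, rfl, rfl⟩ := h.tr2 hab
  obtain ⟨σ, rfl⟩ := h.exists_aut hf hk fa fb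
  obtain ⟨τ, rfl⟩ := h.exists_aut hg hk ga gb
  rw [conj_mul, conj_mul, show RingAut.toPerm F σ * RingAut.toPerm F τ = RingAut.toPerm F τ * RingAut.toPerm F σ from
    Equiv.ext fun a => aut_comm σ τ a]

/-- two-point stabilisers contain at most one involution -/
theorem uniq {f g : Equiv.Perm F} {a b : F} (hab : a ≠ b) (hf : AffI A f) (hg : AffI A g) (fa : f a = a)
    (fb : f b = b) (ga : g a = a) (gb : g b = b) : f = g := by
  obtain ⟨k, hk, rfl, rfl⟩ := h.tr2 hab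
  obtain ⟨σ, rfl⟩ := h.exists_aut hf.mem hk fa fb
  obtain ⟨τ, rfl⟩ := h.exists_aut hg.mem hk ga gb
  have key : ∀ {ρ : F ≃+* F}, AffI A (k * RingAut.toPerm F ρ * k⁻¹) → ρ ≠ 1 ∧ ρ * ρ = 1 := fun {ρ} hρ =>
    ⟨fun e => hρ.ne (by rw [e, map_one]; group), toPerm_inj (by
      have := hρ.sq
      rw [conj_mul, conj_eq_one_iff] at this
      rw [map_mul, this, map_one])⟩
  rw [(eq_of_sq h.two (key hg).1 (key hg).2 (key hf).2).resolve_left (key hf).1]

theorem std {s : Equiv.Perm F} (hs : AffI A s) :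
    ∃ k ∈ A, ∃ τ : F ≃+* F, τ ≠ 1 ∧ τ * τ = 1 ∧ s = k * RingAut.toPerm F τ * k⁻¹ := by
  obtain ⟨x, hx⟩ := hs.fix
  obtain ⟨k, hk, rfl⟩ := h.tr0 x
  have hs' := hs.conj' hk
  obtain ⟨c, σ, e⟩ := h.semi _ hs'.mem (by simp [hx])
  have h1 : ∀ a, c * σ c * σ (σ a) = a := fun a => by
    rw [mul_assoc, ← map_mul, ← e, ← e, aff_app hs'.sq]
  have h2 : c * σ c = 1 := by simpa using h1 1
  have h3 : σ * σ = 1 := RingEquiv.ext fun a => by
    have := h1 a
    rwa [h2, one_mul] at this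
  have h4 : σ ≠ 1 := by
    rintro rfl
    have : c = 1 := by
      refine sub_eq_zero.1 (pow_eq_zero_iff (n := 2) two_ne_zero |>.1 ?_)
      change c * c = 1 at h2
      linear_combination h2 + (1 - c) * h.two
    exact hs'.ne (Equiv.ext fun a => by rw [e, this, one_mul]; rfl)
  obtain ⟨d, d0, hd⟩ := exists_hilbert h.two h4 h3 h2
  refine ⟨k * sc d d0, mul_mem hk (h.sc_mem _ _), σ, h4, h3, ?_⟩
  have : k⁻¹ * s * k = sc d d0 * RingAut.toPerm F σ * (sc d d0)⁻¹ := Equiv.ext fun a => by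
    rw [e]
    change c * σ a = d * σ (d⁻¹ * a)
    have := (map_ne_zero σ).2 d0
    rw [map_mul, map_inv₀, ← mul_assoc, eq_div_of_mul_eq this hd, div_eq_mul_inv]
  rw [mul_inv_rev, mul_assoc k, mul_assoc k, ← mul_assoc (sc d d0 * _), ← this]
  group

theorem exists_fix2 {s : Equiv.Perm F} (hs : AffI A s) {a b : F} (hab : a ≠ b) :
    ∃ φ, AffI A φ ∧ φ a = a ∧ φ b = b := by
  obtain ⟨k, hk, τ, -, -, e⟩ := h.std hs
  obtain ⟨l, hl, rfl, rfl⟩ := h.tr2 hab
  have := (hs.conj' hk).conj hl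
  rw [e, show k⁻¹ * (k * RingAut.toPerm F τ * k⁻¹) * k = RingAut.toPerm F τ by group] at this
  refine ⟨_, this, ?_, ?_⟩ <;> simp only [Equiv.Perm.mul_apply, Equiv.Perm.coe_inv, Equiv.symm_apply_apply]
  exacts [congrArg l (map_zero τ), congrArg l (map_one τ)]

theorem exists_swap {s : Equiv.Perm F} (hs : AffI A s) {a b : F} (hab : a ≠ b) : ∃ t, AffI A t ∧ t a = b := by
  obtain ⟨x, hx⟩ : ∃ x, x ≠ s x := by
    by_contra! k
    exact hs.ne (Equiv.ext fun x => (k x).symm)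
  obtain ⟨k, hk, k0, k1⟩ := h.tr2 hx
  obtain ⟨l, hl, rfl, rfl⟩ := h.tr2 hab
  exact ⟨_, (hs.conj' hk).conj hl, by simp [k0, ← k1]⟩

theorem card_fix [DecidableEq F] {s : Equiv.Perm F} (hs : AffI A s) :
    (Finset.univ.filter fun x => s x = x).card ^ 2 = Fintype.card F := by
  obtain ⟨k, hk, τ, h1, h2, e⟩ := h.std hs
  rw [← Nat.card_eq_fintype_card, ← card_fixA h.two h1 h2, ← Fintype.card_subtype, ← Nat.card_eq_fintype_card]
  congr 1
  refine Nat.card_congr (Equiv.subtypeEquiv k fun a => ?_).symm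
  rw [e, mem_fixA, Equiv.Perm.mul_apply, Equiv.Perm.mul_apply, Equiv.Perm.coe_inv, Equiv.symm_apply_apply,
    k.injective.eq_iff]
  rfl

theorem count {r : ℕ} (hr : r ^ 2 = Fintype.card F) {b : F} {T : Finset (Equiv.Perm F)}
    (hT : ∀ t ∈ T, AffI A t ∧ t b = b) : T.card ≤ r + 1 := by
  classical
  have h1 : (T.biUnion fun t => (Finset.univ.filter fun x => t x = x).erase b).card = T.card * (r - 1) := by
    rw [Finset.card_biUnion, Finset.sum_const_nat]
    · intro t ht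
      have := h.card_fix (hT t ht).1
      rw [← hr] at this
      rw [Finset.card_erase_of_mem (by simpa using (hT t ht).2)]
      exact congrArg (· - 1) (Nat.pow_left_injective two_ne_zero this)
    · intro t ht u hu htu
      refine Finset.disjoint_left.2 fun x h1 h2 => htu ?_
      simp only [Finset.mem_erase, Finset.mem_filter, Finset.mem_univ, true_and] at h1 h2
      exact h.uniq h1.1 (hT t ht).1 (hT u hu).1 h1.2 (hT t ht).2 h2.2 (hT u hu).2
  have h2 : T.card * (r - 1) ≤ (Finset.univ.erase b).card := by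
    rw [← h1]
    refine Finset.card_le_card fun x hx => ?_
    obtain ⟨t, -, ht⟩ := Finset.mem_biUnion.1 hx
    exact Finset.mem_erase.2 ⟨(Finset.mem_erase.1 ht).1, Finset.mem_univ _⟩
  rw [Finset.card_erase_of_mem (Finset.mem_univ _), Finset.card_univ, ← hr] at h2
  have h3 : 1 < r ^ 2 := hr ▸ Fintype.one_lt_card
  obtain ⟨m, rfl⟩ : ∃ m, r = m + 2 := by
    refine ⟨r - 2, ?_⟩
    by_contra k
    have : r ^ 2 ≤ 1 ^ 2 := Nat.pow_le_pow_left (by omega) 2
    omega
  refine Nat.le_of_mul_le_mul_right (c := m + 1) (h2.trans (le_of_eq ?_)) (by omega)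
  exact Nat.sub_eq_of_eq_add (by ring)

theorem swap_uniq0 {s t : Equiv.Perm F} (hs : AffI A s) (ht : AffI A t) (s0 : s 0 = 1) (t0 : t 0 = 1) : s = t := by
  classical
  by_contra hne
  obtain ⟨b, hb⟩ := ht.fix
  have b0 : b ≠ 0 := fun e => zero_ne_one (by rw [← t0, ← e, hb] : (0 : F) = 1)
  obtain ⟨φ, hφ, f0, fb⟩ := h.exists_fix2 hs b0.symm
  have x0 : ∀ x : {x // s x = x}, b / x.1 ≠ 0 := fun x => div_ne_zero b0 fun e =>
    zero_ne_one (by rw [← s0, ← e, x.2] : (0 : F) = 1)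
  let u : {x // s x = x} → Equiv.Perm F := fun x => sc _ (x0 x) * s * (sc _ (x0 x))⁻¹
  have u0 : ∀ x, u x 0 = b / x.1 := fun x => by
    simp only [u, Equiv.Perm.mul_apply, sc_inv, sc_apply, mul_zero, s0, mul_one]
  have ub : ∀ x, u x b = b := fun x => by
    have := (div_ne_zero_iff.1 (x0 x)).2
    simp only [u, Equiv.Perm.mul_apply, sc_inv, sc_apply, inv_div, div_mul_cancel₀ _ b0, x.2, div_mul_cancel₀ _ this]
  have ui : Function.Injective u := fun x y e => Subtype.ext (by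
    have := u0 x
    rw [e, u0, div_eq_mul_inv, div_eq_mul_inv, mul_right_inj' b0, inv_inj] at this
    exact this.symm)
  have h1 := h.count (h.card_fix hs) (b := b) (T := insert t (insert φ (Finset.univ.image u))) (by
    intro v hv
    rcases Finset.mem_insert.1 hv with rfl | hv
    · exact ⟨ht, hb⟩
    rcases Finset.mem_insert.1 hv with rfl | hv
    · exact ⟨hφ, fb⟩
    obtain ⟨x, -, rfl⟩ := Finset.mem_image.1 hv
    exact ⟨hs.conj (h.sc_mem _ _), ub x⟩)
  rw [Finset.card_insert_of_notMem, Finset.card_insert_of_notMem, Finset.card_image_of_injective _ ui,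
    Finset.card_univ, Fintype.card_subtype] at h1
  · omega
  · intro k
    obtain ⟨x, -, e⟩ := Finset.mem_image.1 k
    exact x0 x (by rw [← u0, e, f0])
  · intro k
    rcases Finset.mem_insert.1 k with e | k
    · exact zero_ne_one (by rw [← t0, e, f0] : (0 : F) = 1)
    obtain ⟨x, -, e⟩ := Finset.mem_image.1 k
    have e1 : b / x.1 = 1 := by rw [← u0, e, t0]
    refine hne (e ▸ Equiv.ext fun a => ?_)
    simp only [u, Equiv.Perm.mul_apply, sc_inv, sc_apply, e1, inv_one, one_mul]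

theorem swap_uniq {s t : Equiv.Perm F} {a b : F} (hab : a ≠ b) (hs : AffI A s) (ht : AffI A t) (sa : s a = b)
    (ta : t a = b) : s = t := by
  obtain ⟨k, hk, rfl, rfl⟩ := h.tr2 hab
  have := h.swap_uniq0 (hs.conj' hk) (ht.conj' hk) (by simp [sa]) (by simp [ta])
  simpa using this

theorem swap_sq {s t : Equiv.Perm F} {a b : F} (hab : a ≠ b) (hs : AffI A s) (ht : t ∈ A) (tt : t * t = 1)
    (sa : s a = b) (ta : t a = b) : s * t * (s * t) = 1 := by
  have e1 : (s * t) a = a := by rw [Equiv.Perm.mul_apply, ta, ← sa, aff_app hs.sq]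
  have e2 : (s * t) b = b := by rw [Equiv.Perm.mul_apply, ← ta, aff_app tt, sa, ta]
  have := h.swap_uniq hab (hs.conj (mul_mem hs.mem ht)) hs (by
    rw [Equiv.Perm.mul_apply, Equiv.Perm.mul_apply, Equiv.Perm.inv_eq_iff_eq.2 e1.symm, sa, e2]) sa
  rw [mul_inv_eq_iff_eq_mul] at this
  rw [← mul_assoc, this, ← mul_assoc, hs.sq, one_mul, tt]

theorem not_affI {φ : Equiv.Perm F} (hφ : AffI A φ) : False := by
  obtain ⟨s, hs, s0⟩ := h.exists_swap hφ (zero_ne_one (α := F))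
  obtain ⟨ψ, hψ, p0, p1⟩ := h.exists_fix2 hφ (zero_ne_one (α := F))
  have hc := h.swap_uniq0 (hs.conj hψ.mem) hs (by
    rw [Equiv.Perm.mul_apply, Equiv.Perm.mul_apply, Equiv.Perm.inv_eq_iff_eq.2 p0.symm, s0, p1]) s0
  rw [mul_inv_eq_iff_eq_mul] at hc
  have t0 : (s * ψ) 0 = 1 := by rw [Equiv.Perm.mul_apply, p0, s0]
  have t1 : s * ψ ≠ 1 := fun e => zero_ne_one (by rw [← t0, e]; rfl : (0 : F) = 1)
  have tt : s * ψ * (s * ψ) = 1 := by
    rw [mul_assoc, ← mul_assoc ψ, hc, mul_assoc, hψ.sq, mul_one, hs.sq]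
  have tm := mul_mem hs.mem hψ.mem
  have tf : ∀ a, a ≠ (s * ψ) a := fun a e =>
    hψ.ne (mul_eq_left.1 (h.swap_uniq0 ⟨tm, t1, tt, a, e.symm⟩ hs t0 s0))
  generalize s * ψ = t at t1 tt tm tf
  obtain ⟨n, hn, e⟩ := h.card_pow
  obtain ⟨-, y, -, y1, ho, hy⟩ := Invol.exists_inverted_of_not_mem_pCore (t := (⟨t, tm⟩ : A)) (Subtype.ext tt) (by
    rw [Core.pCore_eq_bot_iff.2 fun N => h.normal_two]
    exact fun k => t1 (congrArg Subtype.val k))
  obtain ⟨p, hp, hd⟩ := Nat.exists_prime_and_dvd (mt orderOf_eq_one_iff.1 y1)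
  have := Fact.mk hp
  have h2 : orderOf (y ^ (orderOf y / p)) = p := orderOf_pow_orderOf_div (orderOf_pos y).ne' hd
  have h3 : (⟨t, tm⟩ : A) * y ^ (orderOf y / p) * (⟨t, tm⟩ : A)⁻¹ = (y ^ (orderOf y / p))⁻¹ := by
    rw [← conj_pow, hy, inv_pow]
  have h4 : Odd p := ho.of_dvd_nat hd
  generalize y ^ (orderOf y / p) = x at h2 h3
  obtain ⟨a, ha⟩ := Equiv.Perm.exists_fixed_point_of_prime (p := p) (n := 1) (σ := x.1)
    (fun hd => by
      rw [e] at hd
      rw [(Nat.prime_dvd_prime_iff_eq hp Nat.prime_two).1 (hp.dvd_of_dvd_pow hd)] at h4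
      exact absurd h4 (by decide))
    (by rw [pow_one, ← h2]; exact congrArg Subtype.val (pow_orderOf_eq_one x))
  have h3' : t * x.1 * t⁻¹ = x.1⁻¹ := congrArg Subtype.val h3
  have h5 : x.1 * t * x.1 = t := by rw [mul_assoc, eq_mul_of_mul_inv_eq h3', mul_inv_cancel_left]
  have h6 : x.1 (t a) = t a := by
    conv_rhs => rw [← h5]
    rw [Equiv.Perm.mul_apply, Equiv.Perm.mul_apply, ha]
  obtain ⟨u, hu, ua⟩ := h.exists_swap hφ (tf a)
  have e1 := h.swap_sq (tf a) hu tm tt ua rfl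
  have e2 := h.swap_sq (tf a) hu (mul_mem tm x.2) (by rw [mul_assoc, ← mul_assoc x.1, h5, tt]) ua
    (by rw [Equiv.Perm.mul_apply, ha])
  have e3 := h.comm (tf a) (mul_mem hu.mem tm) x.2 (by rw [Equiv.Perm.mul_apply, ← ua, aff_app hu.sq])
    (by rw [Equiv.Perm.mul_apply, aff_app tt, ua]) ha h6
  rw [← mul_assoc u t, mul_assoc (u * t), ← mul_assoc x.1, ← e3, ← mul_assoc, ← mul_assoc, e1, one_mul] at e2
  have e4 : p ∣ 2 := h2 ▸ orderOf_dvd_of_pow_eq_one (Subtype.ext (by rw [pow_two]; exact e2))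
  rw [(Nat.prime_dvd_prime_iff_eq hp Nat.prime_two).1 e4] at h4
  exact absurd h4 (by decide)

end Aff0

/-- the point stabiliser of an affine group without translations has odd order -/
theorem Aff0.toAff {A : Subgroup (Equiv.Perm F)} (h : Aff0 A) : TL2.Aff A := by
  have := Fintype.ofFinite F
  refine ⟨h.two, h.aff, h.scal, h.semi, fun f hf f0 => Nat.not_even_iff_odd.1 fun e => ?_, h.ntr, h.mov⟩
  have h2 : orderOf (f ^ (orderOf f / 2)) = 2 := orderOf_pow_orderOf_div (orderOf_pos f).ne' e.two_dvd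
  refine h.not_affI ⟨pow_mem hf (orderOf f / 2), fun k => by simp [k] at h2,
    by rw [← pow_two]; exact orderOf_dvd_iff_pow_eq_one.1 h2.dvd, 0, Equiv.Perm.pow_apply_eq_self_of_apply_eq_self f0 _⟩

end CfsgLib.GMS
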