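import Mathlib
import Cfsg.Agent.Lib.GMS.Ex0A
import Cfsg.Agent.Lib.GMS.Gen
import Cfsg.Agent.Lib.U3S.Gen2

/-! Standard subgroups of type `L₂(2^a)` (plans/GMS.md, package XB). -/

set_option autoImplicit false
set_option linter.unusedSectionVars false

namespace CfsgLib.GMS

open Subgroup Cfsg CfsgLib.Tech CfsgLib.SzS
open scoped MatrixGroups

variable {F : Type*} [Field F] [Finite F] {G : Type*} [Group G] [Finite G]

variable {t : G} {L W N S : Subgroup G} {n : ℕ} {p : G → V3} {j : V3 → G} {θ : G}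

/-- the map of order three permuting `e0, e1, e0 + e1` -/
def th' (x : V3) : V3 := ![x 1, x 0 + x 1, x 2]

theorem Acts.mul {g g' : G} {m m' : V3 → V3} (hg' : g' ∈ normalizer (W : Set G)) (h : Acts W p g m)
    (h' : Acts W p g' m') : Acts W p (g * g') (m ∘ m') := by
  intro w hw
  rw [show g * g' * w * (g * g')⁻¹ = g * (g' * w * g'⁻¹) * g⁻¹ by group,
    h _ (conj_mem_of_mem_normalizer hg' hw), h' w hw]
  rfl

theorem Acts.xb_one : Acts W p 1 id := fun w _ => by simp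

theorem Acts.xb_pow {g : G} {m : V3 → V3} (hg : g ∈ normalizer (W : Set G)) (h : Acts W p g m) (k : ℕ) :
    Acts W p (g ^ k) m^[k] := by
  induction k with
  | zero => simpa using Acts.xb_one
  | succ k ih => rw [pow_succ, Function.iterate_succ]; exact ih.mul hg h

/-- the order of a subgroup from a homomorphism -/
theorem xb_card {S K I : Subgroup G} (f : G → G) (hK : K ≤ S) (mul : ∀ a ∈ S, ∀ b ∈ S, f (a * b) = f a * f b)
    (ker : ∀ s ∈ S, f s = 1 ↔ s ∈ K) (img : ∀ i, i ∈ I ↔ ∃ s ∈ S, f s = i) :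
    Nat.card S = Nat.card K * Nat.card I := by
  let φ : S →* G := MonoidHom.mk' (fun s => f s) fun a b => mul _ a.2 _ b.2
  have e1 : φ.ker = K.subgroupOf S := Subgroup.ext fun s => ker s s.2
  have e2 : φ.range = I := Subgroup.ext fun i => ⟨fun ⟨s, e⟩ => (img i).2 ⟨s, s.2, e⟩, fun h => by
    obtain ⟨s, hs, e⟩ := (img i).1 h
    exact ⟨⟨s, hs⟩, e⟩⟩
  rw [← φ.ker.card_mul_index, index_ker, e1, e2, Nat.card_congr (subgroupOfEquivOfLe hK).toEquiv]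

theorem xb_nrm {K : Subgroup G} (tt : t * t = 1) (h : ∀ x ∈ K, t * x * t ∈ K) : t ∈ normalizer (K : Set G) :=
  mem_normalizer_of_forall fun x hx => by rw [inv_eq_of_mul_eq_one_right tt]; exact h x hx

/-- the 2-part and the odd part of an element -/
theorem xb_parts (g : G) : ∃ k m : ℕ, Odd m ∧ Odd (orderOf (g ^ 4 ^ k)) ∧ IsPGroup 2 (zpowers (g ^ m)) := by
  obtain ⟨k, m, hm, e⟩ := Nat.exists_eq_two_pow_mul_odd (orderOf_pos g).ne'
  refine ⟨k, m, hm, hm.of_dvd_nat (orderOf_dvd_of_pow_eq_one ?_), isPGroup_zpowers_of_pow (k := k) ?_⟩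
  · rw [← pow_mul, show (4 : ℕ) = 2 * 2 from rfl, mul_pow, mul_assoc, ← e, mul_comm, pow_mul, pow_orderOf_eq_one,
      one_pow]
  · rw [← pow_mul, mul_comm, ← e, pow_orderOf_eq_one]

theorem xb_mem {K : Subgroup G} {g : G} {k m : ℕ} (hm : Odd m) (h1 : g ^ 4 ^ k ∈ K) (h2 : g ^ m ∈ K) : g ∈ K := by
  have hc : Nat.gcd (4 ^ k) m = 1 :=
    Nat.Coprime.pow_left k (Nat.Coprime.pow_left 2 (Nat.coprime_two_left.2 hm))
  have := mul_mem (zpow_mem h1 (Nat.gcdA (4 ^ k) m)) (zpow_mem h2 (Nat.gcdB (4 ^ k) m))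
  rwa [← zpow_natCast, ← zpow_natCast, ← zpow_mul, ← zpow_mul, ← zpow_add, ← Nat.gcd_eq_gcd_ab, hc,
    Nat.cast_one, zpow_one] at this

/-- the linear map with given images of the basis vectors -/
def xbLin (x y z : V3) : V3 →+ V3 where
  toFun v := v 0 • x + v 1 • y + v 2 • z
  map_zero' := by simp
  map_add' v w := by simp only [Pi.add_apply, add_smul]; abel

/-- the linear equivalence with given images of the basis vectors -/
noncomputable def xbE (x y z : V3) (h : ∀ v : V3, v 0 • x + v 1 • y + v 2 • z = 0 → v = 0) : V3 ≃+ V3 :=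
  AddEquiv.ofBijective (xbLin x y z)
    (Finite.injective_iff_bijective.1 ((injective_iff_map_eq_zero _).2 h))

theorem xb_pair {x y : V3} (hx : x ≠ 0) (hy : y ≠ 0) (h : x ≠ y) : ∃ M : V3 ≃+ V3, M e0 = x ∧ M e1 = y := by
  obtain ⟨z, hz⟩ : ∃ z : V3, ∀ v : V3, v 0 • x + v 1 • y + v 2 • z = 0 → v = 0 := by
    revert x y; decide +kernel
  exact ⟨xbE x y z hz, by simp [xbE, xbLin, e0], by simp [xbE, xbLin, e1]⟩

theorem xb_type {α β γ : ZMod 2} (h : α * β = 0) (h0 : ¬ (α = 0 ∧ β = 0 ∧ γ = 0)) :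
    ∃ M : V3 ≃+ V3, ∀ v, M (ut 0 0 1 v) = ut α β γ (M v) := by
  obtain ⟨x, y, z, h1, h2⟩ : ∃ x y z : V3, (∀ v : V3, v 0 • x + v 1 • y + v 2 • z = 0 → v = 0) ∧
      ∀ v, xbLin x y z (ut 0 0 1 v) = ut α β γ (xbLin x y z v) := by
    revert α β γ; decide +kernel
  exact ⟨xbE x y z h1, h2⟩

theorem xb_ut_inj {α β γ α' β' γ' : ZMod 2} (h : ut α β γ = ut α' β' γ') : α = α' ∧ β = β' ∧ γ = γ' := by
  revert α β γ α' β' γ'; decide +kernel

namespace Xc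

variable (H : Xc t L W N S n p j θ)
include H

theorem act_eq {g : G} {m m' : V3 → V3} (h : Acts W p g m) (h' : Acts W p g m') : m = m' := by
  funext x
  obtain ⟨w, hw, rfl⟩ := H.surj x
  rw [← h w hw, h' w hw]

theorem act_W {w : G} (hw : w ∈ W) : Acts W p w id := fun v hv => by
  rw [H.ab w hw v hv, mul_inv_cancel_right]; rfl

theorem act_inv {g : G} (hg : g ∈ N) {m m' : V3 → V3} (h : Acts W p g m) (e : ∀ x, m' (m x) = x) :
    Acts W p g⁻¹ m' := fun w hw => by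
  have := h _ (conj_mem_of_mem_normalizer (inv_mem (H.nW hg)) hw)
  rw [show g * (g⁻¹ * w * g⁻¹⁻¹) * g⁻¹ = w by group] at this
  rw [this, e]

theorem act_ut {g g' : G} (hg' : g' ∈ N) {α β γ α' β' γ' : ZMod 2} (h : Acts W p g (ut α β γ))
    (h' : Acts W p g' (ut α' β' γ')) : Acts W p (g * g') (ut (α + α') (β + β') (γ + γ' + α * β')) := by
  have := h.mul (H.nW hg') h'
  rwa [show ut α β γ ∘ ut α' β' γ' = _ from funext (ut_ut α β γ α' β' γ')] at this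

theorem p_one : p 1 = 0 := (H.ker 1 (one_mem _)).2 ⟨1, one_mem _, (mul_one 1).symm⟩

theorem p_inv {w : G} (hw : w ∈ W) : p w⁻¹ = p w := by
  have := H.add _ (inv_mem hw) w hw
  rw [inv_mul_cancel, H.p_one] at this
  exact (by decide : ∀ x y : V3, 0 = x + y → x = y) _ _ this

theorem p_pow {w : G} (hw : w ∈ W) (k : ℕ) : p (w ^ k) = (k : ZMod 2) • p w := by
  induction k with
  | zero => simp [H.p_one]
  | succ k ih => rw [pow_succ, H.add _ (pow_mem hw k) w hw, ih, Nat.cast_succ, add_smul, one_smul]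

theorem j_mem (x : V3) : j x ∈ W := by
  obtain ⟨w, hw, rfl⟩ := H.surj x
  rw [H.jp w hw]; exact pow_mem hw _

theorem j_add (x y : V3) : j (x + y) = j x * j y := by
  obtain ⟨w, hw, rfl⟩ := H.surj x
  obtain ⟨v, hv, rfl⟩ := H.surj y
  rw [← H.add w hw v hv, H.jp _ (mul_mem hw hv), H.jp w hw, H.jp v hv, Commute.mul_pow (H.ab w hw v hv)]

theorem j_zero : j 0 = 1 := by
  rw [← H.p_one, H.jp 1 (one_mem _), one_pow]

theorem j_sq (x : V3) : j x * j x = 1 := (H.jom _ (H.j_mem x)).2 ⟨x, rfl⟩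

theorem p_j (hn : n ≠ 0) (x : V3) : p (j x) = 0 := by
  obtain ⟨w, hw, rfl⟩ := H.surj x
  obtain ⟨k, rfl⟩ := Nat.exists_eq_succ_of_ne_zero hn
  rw [H.jp w hw, H.p_pow hw, pow_succ, Nat.cast_mul, show ((2 : ℕ) : ZMod 2) = 0 from rfl, mul_zero, zero_smul]

theorem p_j0 (hn : n = 0) (x : V3) : p (j x) = x := by
  obtain ⟨w, hw, rfl⟩ := H.surj x
  rw [H.jp w hw, hn, pow_zero, pow_one]

theorem j_act {g : G} (hg : g ∈ normalizer (W : Set G)) {m : V3 → V3} (h : Acts W p g m) (x : V3) :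
    g * j x * g⁻¹ = j (m x) := by
  obtain ⟨w, hw, rfl⟩ := H.surj x
  rw [← h w hw, H.jp w hw, H.jp _ (conj_mem_of_mem_normalizer hg hw), conj_pow]

/-- the action on `Ω₁(W)` determines the action on `W / W²` -/
theorem act_of_j {g : G} (hg : g ∈ normalizer (W : Set G)) {m : V3 → V3} (h : ∀ x, g * j x * g⁻¹ = j (m x)) :
    Acts W p g m := fun w hw => H.jinj (by
  rw [← h, H.jp w hw, H.jp _ (conj_mem_of_mem_normalizer hg hw), conj_pow])

theorem pow_eq_one {w : G} (hw : w ∈ W) : w ^ 2 ^ (n + 1) = 1 := by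
  rw [pow_succ, pow_mul, ← H.jp w hw, pow_two, H.j_sq]

/-- the subgroup of `2 ^ k`-th powers -/
def xbP (k : ℕ) : Subgroup G where
  carrier := {x | ∃ w ∈ W, w ^ 2 ^ k = x}
  one_mem' := ⟨1, one_mem _, one_pow _⟩
  mul_mem' := by
    rintro _ _ ⟨a, ha, rfl⟩ ⟨b, hb, rfl⟩
    exact ⟨_, mul_mem ha hb, Commute.mul_pow (H.ab a ha b hb) _⟩
  inv_mem' := by
    rintro _ ⟨a, ha, rfl⟩
    exact ⟨_, inv_mem ha, inv_pow _ _⟩

theorem xbP_le (k : ℕ) : H.xbP k ≤ W := by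
  rintro _ ⟨a, ha, rfl⟩; exact pow_mem ha _

/-- `H.xbP n` is `Ω₁(W)` -/
theorem mem_xbP {x : G} : x ∈ H.xbP n ↔ ∃ v, j v = x :=
  ⟨fun ⟨w, hw, e⟩ => ⟨p w, (H.jp w hw).trans e⟩, fun ⟨v, e⟩ => by
    obtain ⟨w, hw, rfl⟩ := H.surj v
    exact ⟨w, hw, (H.jp w hw).symm.trans e⟩⟩

theorem card_xbP : Nat.card (H.xbP n) = 8 := by
  rw [← Nat.card_congr (Equiv.ofBijective (fun v : V3 => (⟨j v, H.mem_xbP.2 ⟨v, rfl⟩⟩ : H.xbP n))
    ⟨fun _ _ e => H.jinj (congrArg Subtype.val e), fun ⟨x, hx⟩ => by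
      obtain ⟨v, rfl⟩ := H.mem_xbP.1 hx
      exact ⟨v, rfl⟩⟩)]
  simp

theorem card_W : Nat.card W = 8 ^ (n + 1) := by
  have key : ∀ i k, k + i = n → Nat.card (H.xbP k) = 8 ^ (i + 1) := fun i => by
    induction i with
    | zero => rintro k rfl; exact H.card_xbP
    | succ i ih =>
      intro k e
      have h1 : H.xbP n ≤ H.xbP k := by
        rintro _ ⟨w, hw, rfl⟩
        exact ⟨w ^ 2 ^ (i + 1), pow_mem hw _, by rw [← pow_mul, ← pow_add, add_comm, e]⟩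
      rw [xb_card (I := H.xbP (k + 1)) (fun x => x ^ 2) h1
        (fun a ha b hb => Commute.mul_pow (H.ab a (H.xbP_le k ha) b (H.xbP_le k hb)) 2)
        (fun s hs => by rw [pow_two, H.jom s (H.xbP_le k hs), H.mem_xbP]) fun x =>
        ⟨fun ⟨w, hw, e⟩ => ⟨_, ⟨w, hw, rfl⟩, by rw [← e, pow_succ 2, pow_mul]⟩, fun ⟨_, ⟨w, hw, e1⟩, e⟩ =>
          ⟨w, hw, by rw [← e, ← e1, pow_succ 2, pow_mul]⟩⟩, H.card_xbP, ih (k + 1) (by omega), ← pow_succ']
  rw [← key n 0 (zero_add n), le_antisymm (H.xbP_le 0) fun x hx => ⟨x, hx, pow_one x⟩]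

theorem t_norm : t ∈ normalizer (W : Set G) ∧ t ∈ normalizer (S : Set G) ∧ t ∈ normalizer (N : Set G) := by
  have e : ∀ g : G, t * g * t = t * g * t * g⁻¹ * g := fun g => by group
  exact ⟨xb_nrm H.tt fun x hx => H.inv x hx ▸ inv_mem hx,
    xb_nrm H.tt fun x hx => e x ▸ mul_mem (H.WS (H.coc x (H.SN hx))) hx,
    xb_nrm H.tt fun x hx => e x ▸ mul_mem (H.SN (H.WS (H.coc x hx))) hx⟩

/-- the cocycle identity -/
theorem coc_mul (g g' : G) :
    t * (g * g') * t * (g * g')⁻¹ = t * g * t * g⁻¹ * (g * (t * g' * t * g'⁻¹) * g⁻¹) := by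
  simp only [mul_inv_rev, mul_assoc, inv_mul_cancel_left]
  rw [← mul_assoc t t, H.tt, one_mul]

theorem xb_id {g : G} (hg : g ∈ normalizer (W : Set G)) : Acts W p g id ↔ ∀ x, g * j x = j x * g :=
  ⟨fun h x => mul_inv_eq_iff_eq_mul.1 (H.j_act hg h x),
    fun h => H.act_of_j hg fun x => mul_inv_eq_iff_eq_mul.2 (h x)⟩

theorem xb_pg : IsPGroup 2 W := H.syl.pgroup.to_le H.WS

/-- a 2-element acting trivially lies in `W` -/
theorem xb_two {g : G} (hL : g ∈ L) (hg : g ∈ normalizer (W : Set G)) (h : Acts W p g id)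
    (h2 : IsPGroup 2 (zpowers g)) : g ∈ W := by
  obtain ⟨l, ⟨-, hl⟩, e⟩ := (H.syl.of_le (le_inf H.syl.le (H.SN.trans H.nW)) inf_le_left).exists_conj_mem
    (x := g) ⟨hL, hg⟩ h2
  have h3 := H.ut0 _ e ((H.xb_id (H.nW (H.SN e))).2 fun x => by
    obtain ⟨y, hy⟩ := (H.jom _ (conj_mem_of_mem_normalizer' hl (H.j_mem x))).1
      (by rw [show l⁻¹ * j x * l * (l⁻¹ * j x * l) = l⁻¹ * (j x * j x) * l by group, H.j_sq]; group)
    rw [show j x = l * j y * l⁻¹ by rw [hy]; group, conj_mul, conj_mul, (H.xb_id hg).1 h])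
  simpa [mul_assoc] using conj_mem_of_mem_normalizer' hl h3

theorem faith {g : G} (hL : g ∈ L) (hg : g ∈ normalizer (W : Set G)) (h : Acts W p g id) {w : G} (hw : w ∈ W) :
    g * w = w * g := by
  obtain ⟨k, m, hm, h1, h2⟩ := xb_parts g
  have a : ∀ i, Acts W p (g ^ i) id := fun i => by simpa using h.xb_pow hg i
  refine mem_centralizer_singleton_iff.1 (xb_mem (k := k) hm ?_ ?_) <;> rw [mem_centralizer_singleton_iff]
  · refine U3S.comm_of_odd H.xb_pg H.ab h1 (fun _ => conj_mem_of_mem_normalizer (pow_mem hg _))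
      (fun v hv e => ?_) hw
    obtain ⟨x, rfl⟩ := (H.jom v hv).1 e
    exact (H.xb_id (pow_mem hg _)).1 (a _) x
  · exact H.ab _ (H.xb_two (pow_mem hL _) (pow_mem hg _) (a _) h2) w hw

theorem xb_div {g g' : G} (hg : g ∈ N) (hg' : g' ∈ N) {m : V3 → V3} (h : Acts W p g m) (h' : Acts W p g' m) :
    Acts W p (g'⁻¹ * g) id := (H.xb_id (H.nW (mul_mem (inv_mem hg') hg))).2 fun x => by
  have := (H.j_act (H.nW hg) h x).trans (H.j_act (H.nW hg') h' x).symm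
  rw [mul_assoc g'⁻¹, mul_inv_eq_iff_eq_mul.1 this]; group

theorem conj_eq {g g' : G} (hg : g ∈ N) (hg' : g' ∈ N) {m : V3 → V3} (h : Acts W p g m) (h' : Acts W p g' m)
    {w : G} (hw : w ∈ W) : g * w * g⁻¹ = g' * w * g'⁻¹ := by
  have h1 := mul_mem (inv_mem hg') hg
  have := H.faith (H.NL h1) (H.nW h1) (H.xb_div hg hg' h h') hw
  rw [show g * w * g⁻¹ = g' * (g'⁻¹ * g * w) * g⁻¹ by group, this]; group

/-- elements of `S` of the same type -/
theorem mem_of_same {s s' : G} (hs : s ∈ S) (hs' : s' ∈ S) {m : V3 → V3} (h : Acts W p s m) (h' : Acts W p s' m) :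
    s * s'⁻¹ ∈ W := by
  have := conj_mem_of_mem_normalizer (H.nW (H.SN hs'))
    (H.ut0 _ (mul_mem (inv_mem hs') hs) (H.xb_div (H.SN hs) (H.SN hs') h h'))
  rwa [mul_inv_cancel_left] at this

theorem card_S : Nat.card S = 8 ^ (n + 2) := by
  choose σ h1 h2 using H.utX
  rw [← Nat.card_congr (Equiv.ofBijective (fun x : (ZMod 2 × ZMod 2 × ZMod 2) × W =>
    (⟨x.2 * σ x.1.1 x.1.2.1 x.1.2.2, mul_mem (H.WS x.2.2) (h1 _ _ _)⟩ : S)) ⟨?_, fun ⟨s, hs⟩ => ?_⟩),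
    Nat.card_prod, H.card_W]
  · simp [pow_succ']
  · rintro ⟨⟨α, β, γ⟩, w, hw⟩ ⟨⟨α', β', γ'⟩, w', hw'⟩ e
    have e1 : w * σ α β γ = w' * σ α' β' γ' := congrArg Subtype.val e
    have a1 := (H.act_W hw).mul (H.nW (H.SN (h1 _ _ _))) (h2 α β γ)
    have a2 := (H.act_W hw').mul (H.nW (H.SN (h1 _ _ _))) (h2 α' β' γ')
    rw [e1] at a1
    obtain ⟨rfl, rfl, rfl⟩ := xb_ut_inj (H.act_eq a1 a2)
    obtain rfl := mul_right_cancel e1
    rfl
  · obtain ⟨α, β, γ, h⟩ := H.utS s hs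
    exact ⟨⟨⟨α, β, γ⟩, _, H.mem_of_same hs (h1 _ _ _) h (h2 _ _ _)⟩, Subtype.ext (inv_mul_cancel_right _ _)⟩

/-- all transvections in the unitriangular group are conjugate -/
theorem exists_type {α β γ : ZMod 2} (h : α * β = 0) (h0 : ¬ (α = 0 ∧ β = 0 ∧ γ = 0)) : ∃ m ∈ N, ∀ g ∈ N,
    (Acts W p g (ut 0 0 1) ↔ Acts W p (m * g * m⁻¹) (ut α β γ)) := by
  obtain ⟨M, e⟩ := xb_type h h0
  obtain ⟨m, hm, h1⟩ := H.full M
  have h2 := H.act_inv hm h1 M.symm_apply_apply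
  refine ⟨m, hm, fun g hg => ⟨fun h3 => ?_, fun h3 => ?_⟩⟩
  · have := (h1.mul (H.nW hg) h3).mul (H.nW (inv_mem hm)) h2
    rwa [show (M ∘ ut 0 0 1) ∘ M.symm = ut α β γ from funext fun v => by simp [e]] at this
  · have := (h2.mul (H.nW (mul_mem (mul_mem hm hg) (inv_mem hm))) h3).mul (H.nW hm) h1
    rwa [show (M.symm ∘ ut α β γ) ∘ M = ut 0 0 1 from funext fun v => by simp [← e],
      show m⁻¹ * (m * g * m⁻¹) * m = g by group] at this

theorem xb_sq {s : G} (hs : s ∈ N) {α β γ : ZMod 2} (h : Acts W p s (ut α β γ)) (ss : s * s ∈ W) : α * β = 0 := by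
  have := (xb_ut_inj (H.act_eq (H.act_ut hs h h) (ut_zero ▸ H.act_W ss))).2.2
  rwa [CharTwo.add_self_eq_zero, zero_add] at this

/-- an involution of `S` outside `W` is conjugate under `N` to one of type `(0,0,1)` -/
theorem exists_conj {s : G} (hs : s ∈ S) (ss : s * s = 1) (hW : s ∉ W) :
    ∃ m ∈ N, m * s * m⁻¹ ∈ S ∧ Acts W p (m * s * m⁻¹) (ut 0 0 1) := by
  obtain ⟨α, β, γ, h⟩ := H.utS s hs
  obtain ⟨m, hm, e⟩ := H.exists_type (H.xb_sq (H.SN hs) h (ss ▸ one_mem _)) (β := β) (γ := γ)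
    fun ⟨e1, e2, e3⟩ => hW (H.ut0 s hs (by rwa [e1, e2, e3, ut_zero] at h))
  have h1 := mul_mem (mul_mem (inv_mem hm) (H.SN hs)) (inv_mem (inv_mem hm))
  have h2 := (e _ h1).2 (by rwa [show m * (m⁻¹ * s * m⁻¹⁻¹) * m⁻¹ = s by group])
  exact ⟨m⁻¹, inv_mem hm, H.two _ h1 (isPGroup_two_zpowers (by rw [conj_mul, ss]; group)) _ _ _ h2, h2⟩

theorem exists_inv {a : G} (ha : a ∈ S) (aa : a * a = 1) (h : Acts W p a (ut 0 0 1)) {α β γ : ZMod 2}
    (h1 : α * β = 0) (h0 : ¬ (α = 0 ∧ β = 0 ∧ γ = 0)) : ∃ s ∈ S, s * s = 1 ∧ Acts W p s (ut α β γ) := by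
  obtain ⟨m, hm, e⟩ := H.exists_type h1 h0
  have h2 := (e _ (H.SN ha)).1 h
  have h3 : m * a * m⁻¹ * (m * a * m⁻¹) = 1 := by rw [conj_mul, aa]; group
  exact ⟨_, H.two _ (mul_mem (mul_mem hm (H.SN ha)) (inv_mem hm)) (isPGroup_two_zpowers h3) _ _ _ h2, h3, h2⟩

/-- `N` is transitive on ordered pairs of distinct nonzero vectors -/
theorem exists_pair {x y x' y' : V3} (hx : x ≠ 0) (hy : y ≠ 0) (h : x ≠ y) (hx' : x' ≠ 0) (hy' : y' ≠ 0)
    (h' : x' ≠ y') : ∃ m ∈ N, m * j x * m⁻¹ = j x' ∧ m * j y * m⁻¹ = j y' := by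
  obtain ⟨M, e1, e2⟩ := xb_pair hx hy h
  obtain ⟨M', e3, e4⟩ := xb_pair hx' hy' h'
  obtain ⟨m, hm, h1⟩ := H.full (M.symm.trans M')
  exact ⟨m, hm, by rw [H.j_act (H.nW hm) h1, ← e1, ← e3]; simp, by rw [H.j_act (H.nW hm) h1, ← e2, ← e4]; simp⟩

theorem exists_th' : ∃ g ∈ N, Odd (orderOf g) ∧ Acts W p g th' := by
  obtain ⟨g, hg, h⟩ := H.full ⟨⟨th', th' ∘ th', by decide, by decide⟩, by decide⟩
  obtain ⟨k, -, -, h1, -⟩ := xb_parts g
  refine ⟨_, pow_mem hg _, h1, ?_⟩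
  have e : ∀ k, th'^[4 ^ k] = th' := fun k => by
    induction k with
    | zero => rfl
    | succ k ih => rw [pow_succ, Function.iterate_mul, ih]; decide
  exact e k ▸ Acts.xb_pow (H.nW hg) h _

/-- a subgroup of `W` that covers `W / W²` -/
theorem le_of_surj {X : Subgroup G} (h : ∀ x, ∃ w ∈ X ⊓ W, p w = x) : W ≤ X := by
  have key : ∀ k, ∀ w ∈ W, ∃ x ∈ X, ∃ v ∈ W, w = x * v ^ 2 ^ k := fun k => by
    induction k with
    | zero => exact fun w hw => ⟨1, one_mem _, w, hw, by simp⟩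
    | succ k ih =>
      intro w hw
      obtain ⟨x, hx, v, hv, rfl⟩ := ih w hw
      obtain ⟨y, hy, e⟩ := h (p v)
      obtain ⟨u, hu, e1⟩ := (H.ker _ (mul_mem (inv_mem hy.2) hv)).1
        (by rw [H.add _ (inv_mem hy.2) v hv, H.p_inv hy.2, e]; exact CharTwo.add_self_eq_zero _)
      refine ⟨_, mul_mem hx (pow_mem hy.1 (2 ^ k)), u, hu, ?_⟩
      rw [inv_mul_eq_iff_eq_mul.1 e1, Commute.mul_pow (H.ab y hy.2 _ (mul_mem hu hu)), ← pow_two, ← pow_mul,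
        ← pow_succ', mul_assoc]
  intro w hw
  obtain ⟨x, hx, v, hv, rfl⟩ := key (n + 1) w hw
  rwa [H.pow_eq_one hv, mul_one]

/-- an involution in the centre of `S` -/
theorem cent_S {y : G} (hy : y ∈ S) (yy : y * y = 1) (h : ∀ s ∈ S, s * y = y * s) : y = 1 ∨ y = j e0 := by
  obtain ⟨x, rfl⟩ := (H.jom y (H.ut0 y hy ((H.xb_id (H.nW (H.SN hy))).2 fun x =>
    (h _ (H.WS (H.j_mem x))).symm))).1 yy
  have : ∀ α β γ, ut α β γ x = x := fun α β γ => by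
    obtain ⟨s, hs, e⟩ := H.utX α β γ
    exact H.jinj (by rw [← H.j_act (H.nW (H.SN hs)) e, h s hs, mul_inv_cancel_right])
  rcases (by decide : ∀ x : V3, ut 1 0 0 x = x → ut 0 1 0 x = x → x = 0 ∨ x = e0) x (this ..) (this ..) with rfl | rfl
  exacts [.inl H.j_zero, .inr rfl]

end Xc

end CfsgLib.GMS
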