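import Mathlib
import Cfsg.Agent.Lib.GMS.XB

/-! Standard subgroups of type `L₂(2^a)` (plans/GMS.md, package XM). -/

set_option autoImplicit false
set_option linter.unusedSectionVars false

namespace CfsgLib.GMS

open Subgroup Cfsg CfsgLib.Tech CfsgLib.SzS
open scoped MatrixGroups

variable {F : Type*} [Field F] [Finite F] {G : Type*} [Group G] [Finite G]

variable {t : G} {L W N S : Subgroup G} {n : ℕ} {p : G → V3} {j : V3 → G} {θ : G}

/-- the module structure of `W` for the transvection with centre `v` and axis `x 2 = 0` -/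
structure My (W N : Subgroup G) (p : G → V3) (j : V3 → G) (β γ : ZMod 2) (y : G) : Prop where
  yW : y ∈ W
  py : p y = ![γ, β, 0]
  nrm : ∀ a ∈ N, Acts W p a (ut 0 β γ) → ∀ w ∈ W, ∃ k : ℕ, w * (a * w * a⁻¹) = y ^ k ∧ (k : ZMod 2) = p w 2
  cen : ∀ a ∈ N, Acts W p a (ut 0 β γ) → ∀ w ∈ W, a * w = w * a → ∃ (k : ℕ) (x : V3), x 2 = 0 ∧ w = y ^ k * j x
  com : ∀ a ∈ N, Acts W p a (ut 0 β γ) → ∀ w ∈ W, w * (a * w * a⁻¹) = 1 → p w = 0 ∨ p w = ![γ, β, 0] →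
    ∃ v ∈ W, w = a * v * a⁻¹ * v⁻¹
  actB : ∀ g ∈ N, ∀ β' γ', Acts W p g (ut 0 β' γ') →
    g * y * g⁻¹ = if (β' = 0 ∧ γ' = 0) ∨ (β' = β ∧ γ' = γ) then y else y⁻¹

/-- the third basis vector -/
def xmE2 : V3 := ![0, 0, 1]

/-- `th` as an additive equivalence -/
def xmTh : V3 ≃+ V3 := ⟨⟨th, th ∘ th, by decide, by decide⟩, by decide⟩

/-- `th'` as an additive equivalence -/
def xmTh' : V3 ≃+ V3 := ⟨⟨th', th' ∘ th', by decide, by decide⟩, by decide⟩

/-- the additive model of `W` -/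
structure XmMd {M : Type*} [AddCommGroup M] (n : ℕ) (p : M →+ V3) (j : V3 →+ M) (ρ : (V3 ≃+ V3) → M →+ M) :
    Prop where
  ker : ∀ w, p w = 0 → ∃ v, w = v + v
  surj : Function.Surjective p
  jp : ∀ w, j (p w) = 2 ^ n • w
  jinj : Function.Injective j
  jom : ∀ w, w + w = 0 → ∃ x, j x = w
  act : ∀ m w, p (ρ m w) = m (p w)
  mul : ∀ m m' m'' : V3 ≃+ V3, (∀ x, m (m' x) = m'' x) → ∀ w, ρ m (ρ m' w) = ρ m'' w
  one : ∀ w, ρ (AddEquiv.refl _) w = w

theorem xm_add_self (x : V3) : x + x = 0 := by revert x; decide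

namespace XmMd

variable {M : Type*} [AddCommGroup M] {n : ℕ} {p : M →+ V3} {j : V3 →+ M} {ρ : (V3 ≃+ V3) → M →+ M}
  (h : XmMd n p j ρ)
include h

theorem exp (w : M) : 2 ^ (n + 1) • w = 0 := by
  rw [pow_succ', mul_smul, ← h.jp, two_smul, ← map_add, xm_add_self, map_zero]

theorem jact (m : V3 ≃+ V3) (x : V3) : ρ m (j x) = j (m x) := by
  obtain ⟨w, rfl⟩ := h.surj x
  rw [← h.act, h.jp, h.jp, map_nsmul]

theorem sq (m m' : V3 ≃+ V3) (e : ∀ x, m (m' x) = x) (w : M) : ρ m (ρ m' w) = w :=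
  (h.mul m m' _ e w).trans (h.one w)

theorem comm (m₁ m₂ m₃ m₄ : V3 ≃+ V3) (e : ∀ x, m₁ (m₂ x) = m₃ (m₄ x)) (w : M) :
    ρ m₁ (ρ m₂ w) = ρ m₃ (ρ m₄ w) :=
  (h.mul m₁ m₂ (m₄.trans m₃) e w).trans (h.mul m₃ m₄ _ (fun _ => rfl) w).symm

theorem zero_of (P : M → Prop) (h2 : ∀ w, P w → P (w + w)) (h0 : ∀ x, P (j x) → x = 0) {w : M} (hw : P w) :
    w = 0 := by
  have key : ∀ k : ℕ, ∀ w, P w → 2 ^ k • w = 0 → w = 0 := fun k => by
    induction k with
    | zero => simp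
    | succ k ih =>
      intro w hw e
      obtain ⟨x, rfl⟩ := h.jom w (ih _ (h2 w hw) (by rw [← two_smul ℕ, ← mul_smul, ← pow_succ, e]))
      rw [h0 x hw, map_zero]
  exact key _ w hw (h.exp w)

theorem top_of (K : AddSubgroup M) (h0 : e0 ∈ K.map p) (h1 : e1 ∈ K.map p) (h2 : xmE2 ∈ K.map p) (w : M) :
    w ∈ K := by
  have hs : ∀ x, x ∈ K.map p := fun x => by
    rw [(by decide : ∀ x : V3, x = (x 0).val • e0 + (x 1).val • e1 + (x 2).val • xmE2) x]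
    exact add_mem (add_mem (nsmul_mem h0 _) (nsmul_mem h1 _)) (nsmul_mem h2 _)
  have key : ∀ k : ℕ, ∀ w, ∃ v, w - 2 ^ k • v ∈ K := fun k => by
    induction k with
    | zero => exact fun w => ⟨w, by simp⟩
    | succ k ih =>
      intro w
      obtain ⟨v, hv⟩ := ih w
      obtain ⟨y, hy, e⟩ := hs (p v)
      obtain ⟨u, hu⟩ := h.ker (v - y) (by rw [map_sub, e, sub_self])
      refine ⟨u, ?_⟩
      convert add_mem hv (nsmul_mem hy (2 ^ k)) using 1
      rw [sub_eq_iff_eq_add.1 hu, pow_succ]; module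
  obtain ⟨v, hv⟩ := key (n + 1) w
  rwa [h.exp, sub_zero] at hv

theorem cyc (P : AddSubgroup M) {y : M} (hy : y ∈ P) (h0 : ∀ x, j x ∈ P → x = 0 ∨ x = p y) {v : M}
    (hv : v ∈ P) : ∃ c : ℕ, v = c • y := by
  have key : ∀ k i : ℕ, k + i = n + 1 → ∀ v ∈ P, 2 ^ k • v = 0 → ∃ c : ℕ, v = c • 2 ^ i • y := fun k => by
    induction k with
    | zero => exact fun i _ v _ e => ⟨0, by simpa using e⟩
    | succ k ih =>
      intro i e v hv e1
      obtain ⟨c, hc⟩ := ih (i + 1) (by omega) _ (add_mem hv hv)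
        (by rw [← two_smul ℕ, ← mul_smul, ← pow_succ, e1])
      obtain ⟨x, hx⟩ := h.jom (v - c • 2 ^ i • y) (by rw [pow_succ] at hc; linear_combination (norm := module) hc)
      rcases h0 x (hx ▸ sub_mem hv (nsmul_mem (nsmul_mem hy _) _)) with rfl | rfl
      · exact ⟨c, by rw [map_zero] at hx; exact (sub_eq_zero.1 hx.symm)⟩
      · refine ⟨c + 2 ^ k, ?_⟩
        rw [h.jp, show n = k + i by omega, pow_add] at hx
        linear_combination (norm := module) -hx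
  simpa using key (n + 1) 0 rfl v hv (h.exp v)

theorem sumA (w : M) : w + ρ (utE 0 0 1) w + ρ (utE 1 0 0) (w + ρ (utE 0 0 1) w) = 0 := by
  set A := ρ (utE 0 0 1)
  set D := ρ (utE 1 0 0)
  set Θ := ρ xmTh
  have aa : ∀ w, A (A w) = w := h.sq _ _ (by decide)
  have dd : ∀ w, D (D w) = w := h.sq _ _ (by decide)
  have ad : ∀ w, A (D w) = D (A w) := h.comm _ _ _ _ (by decide)
  have ta : ∀ w, Θ (A w) = D (Θ w) := h.comm _ _ _ _ (by decide)
  have td : ∀ w, Θ (D w) = D (A (Θ w)) := fun w =>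
    (h.comm _ _ (utE 1 0 1) xmTh (by decide) w).trans (h.mul _ _ _ (by decide) _).symm
  have ttt : ∀ w, Θ (Θ (Θ w)) = w := fun w =>
    (h.mul _ _ xmTh.symm (by decide) _).trans (h.sq _ _ (by decide) w)
  let σ : M →+ M := (AddMonoidHom.id M + D).comp (AddMonoidHom.id M + A)
  have hσ : ∀ w, σ w = w + A w + D (w + A w) := fun w => rfl
  have h1 : ∀ w, σ (Θ w - w) = 0 := fun w => by
    have e : σ (Θ w - w) = Θ (σ w) - σ w := by simp only [hσ, map_add, map_sub, ta, td, ad, dd, aa]; abel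
    refine h.zero_of (fun y => A y = y ∧ D y = y ∧ y + Θ y + Θ (Θ y) = 0) (fun y hy => ?_) (fun x hx => ?_)
      ⟨?_, ?_, ?_⟩
    · refine ⟨by rw [map_add, hy.1], by rw [map_add, hy.2.1], ?_⟩
      simp only [map_add]; linear_combination (norm := module) hy.2.2 + hy.2.2
    · simp only [A, D, Θ, h.jact, ← map_add] at hx
      exact (by decide : ∀ x, utE 0 0 1 x = x → utE 1 0 0 x = x → x + xmTh x + xmTh (xmTh x) = 0 → x = 0) x
        (h.jinj hx.1) (h.jinj hx.2.1) (h.jinj (hx.2.2.trans (map_zero j).symm))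
    · simp only [hσ, map_add, aa, ad]; abel
    · simp only [hσ, map_add, dd]; abel
    · simp only [e, map_sub, ttt]; abel
  have h2 : ∀ x, xmTh x - x ∈ σ.ker.map p := fun x => by
    obtain ⟨w, rfl⟩ := h.surj x
    exact ⟨_, h1 w, by rw [map_sub, h.act]⟩
  have h3 : e1 ∈ σ.ker.map p := (by decide : xmTh xmE2 - xmE2 = e1) ▸ h2 _
  refine h.top_of σ.ker ?_ h3 ((by decide : xmTh (e1 + xmE2) - (e1 + xmE2) = xmE2) ▸ h2 _) w
  obtain ⟨v, hv, e⟩ := h3
  refine ⟨v + D v, add_mem hv ?_, by rw [map_add, h.act, e]; decide⟩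
  rw [AddMonoidHom.mem_ker, ← show σ v = 0 from hv]
  simp only [hσ, map_add, dd, ad]; abel

theorem sumB (w : M) : w + ρ (utE 0 0 1) w + ρ (utE 0 1 0) (w + ρ (utE 0 0 1) w) = 0 := by
  set A := ρ (utE 0 0 1)
  set D := ρ (utE 0 1 0)
  set Θ := ρ xmTh'
  have aa : ∀ w, A (A w) = w := h.sq _ _ (by decide)
  have dd : ∀ w, D (D w) = w := h.sq _ _ (by decide)
  have ad : ∀ w, A (D w) = D (A w) := h.comm _ _ _ _ (by decide)
  have ta : ∀ w, Θ (A w) = D (Θ w) := h.comm _ _ _ _ (by decide)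
  have td : ∀ w, Θ (D w) = D (A (Θ w)) := fun w =>
    (h.comm _ _ (utE 0 1 1) xmTh' (by decide) w).trans (h.mul _ _ _ (by decide) _).symm
  have ttt : ∀ w, Θ (Θ (Θ w)) = w := fun w =>
    (h.mul _ _ xmTh'.symm (by decide) _).trans (h.sq _ _ (by decide) w)
  let σ : M →+ M := (AddMonoidHom.id M + D).comp (AddMonoidHom.id M + A)
  have hσ : ∀ w, σ w = w + A w + D (w + A w) := fun w => rfl
  obtain ⟨u, hu⟩ := h.surj xmE2
  obtain ⟨v, h1, h2⟩ : ∃ v, Θ v = v ∧ p v = xmE2 := ⟨u + Θ u + Θ (Θ u), by simp only [map_add, ttt]; abel,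
    by simp only [Θ, map_add, h.act, hu]; decide⟩
  have hv : σ v = 0 := by
    refine h.zero_of (fun y => A y = y ∧ Θ y = y) (fun y hy => ?_) (fun x hx => ?_) ⟨?_, ?_⟩
    · exact ⟨by rw [map_add, hy.1], by rw [map_add, hy.2]⟩
    · simp only [A, Θ, h.jact] at hx
      exact (by decide : ∀ x, utE 0 0 1 x = x → xmTh' x = x → x = 0) x (h.jinj hx.1) (h.jinj hx.2)
    · simp only [hσ, map_add, aa, ad]; abel
    · simp only [hσ, map_add, ta, td, ad, dd, h1]; abel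
  refine h.top_of σ.ker ⟨v + A v, add_mem hv ?_, by rw [map_add, h.act, h2]; decide⟩
    ⟨v + D v, add_mem hv ?_, by rw [map_add, h.act, h2]; decide⟩ ⟨v, hv, h2⟩ w <;>
    rw [AddMonoidHom.mem_ker, ← hv] <;> simp only [hσ, map_add, aa, dd, ad] <;> abel

theorem invB {β γ β' γ' : ZMod 2} (h0 : ¬ (β = 0 ∧ γ = 0)) (w : M) : ρ (utE 0 β' γ') (w + ρ (utE 0 β γ) w) =
    if (β' = 0 ∧ γ' = 0) ∨ (β' = β ∧ γ' = γ) then w + ρ (utE 0 β γ) w else -(w + ρ (utE 0 β γ) w) := by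
  have e := h.sumB w
  have e0 : ρ (utE 0 0 0) w = w := (congrArg (ρ · w) (AddEquiv.ext (by decide))).trans (h.one w)
  rw [map_add, h.mul _ _ (utE 0 1 1) (by decide)] at e
  rw [map_add, h.mul _ _ (utE 0 (β' + β) (γ' + γ)) (by revert β γ β' γ'; decide)]
  have z : ∀ x : ZMod 2, x = 0 ∨ x = 1 := by decide
  have o : (1 + 1 : ZMod 2) = 0 := rfl
  rcases z β with rfl | rfl <;> rcases z γ with rfl | rfl <;> rcases z β' with rfl | rfl <;>
    rcases z γ' with rfl | rfl <;>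
    simp only [zero_add, add_zero, o, e0, zero_ne_one, one_ne_zero, and_self, and_true, and_false, false_and,
      true_and, or_self, or_true, true_or, or_false, if_true, if_false, not_true] at h0 ⊢ <;>
    first | abel1 | linear_combination (norm := module) e

theorem exists_d {β γ : ZMod 2} (h0 : ¬ (β = 0 ∧ γ = 0)) : ∃ d : V3 ≃+ V3,
    (∀ w, ρ d (w + ρ (utE 0 β γ) w) = -(w + ρ (utE 0 β γ) w)) ∧
    ∀ x, utE 0 β γ x = x → d x = x → x = 0 ∨ x = ![γ, β, 0] := by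
  obtain ⟨m, e⟩ := xb_type (α := 0) (β := β) (γ := γ) (zero_mul _) fun e => h0 e.2
  refine ⟨(m.symm.trans (utE 1 0 0)).trans m, fun w => ?_, fun x h1 h2 => ?_⟩
  · rw [← h.sq m m.symm m.apply_symm_apply w, ← h.comm m (utE 0 0 1) (utE 0 β γ) m e, ← map_add,
      h.comm _ m m (utE 1 0 0) (by simp), ← map_neg, eq_neg_of_add_eq_zero_right (h.sumA _)]
  · obtain ⟨x, rfl⟩ := m.surjective x
    have h3 : m e0 = ![γ, β, 0] := (by decide : ∀ (β γ : ZMod 2) (x y : V3), x ≠ 0 → y + x = ut 0 β γ y →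
      x = ![γ, β, 0]) β γ _ (m xmE2) (by rw [Ne, map_eq_zero_iff _ m.injective]; decide)
      (by rw [← e, ← map_add]; exact congrArg m (by decide))
    rcases (by decide : ∀ x, ut 0 0 1 x = x → utE 1 0 0 x = x → x = 0 ∨ x = e0) x
      (m.injective ((e x).trans h1)) (by simpa using h2) with rfl | rfl
    exacts [.inl (map_zero m), .inr h3]

theorem exists_my {β γ : ZMod 2} (h0 : ¬ (β = 0 ∧ γ = 0)) : ∃ y, p y = ![γ, β, 0] ∧
    (∀ w, ∃ k : ℕ, w + ρ (utE 0 β γ) w = k • y ∧ (k : ZMod 2) = p w 2) ∧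
    (∀ w, ρ (utE 0 β γ) w = w → ∃ (k : ℕ) (x : V3), x 2 = 0 ∧ w = k • y + j x) ∧
    (∀ w, w + ρ (utE 0 β γ) w = 0 → p w = 0 ∨ p w = ![γ, β, 0] → ∃ v, w = ρ (utE 0 β γ) v - v) ∧
    ∀ β' γ', ρ (utE 0 β' γ') y = if (β' = 0 ∧ γ' = 0) ∨ (β' = β ∧ γ' = γ) then y else -y := by
  obtain ⟨d, h1, h2⟩ := h.exists_d h0
  obtain ⟨u, hu⟩ := h.surj xmE2
  have hi := fun β' γ' => h.invB (β' := β') (γ' := γ') h0 u
  set A := ρ (utE 0 β γ)
  have aa : ∀ w, A (A w) = w := h.sq _ _ (by clear * -; revert β γ; decide)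
  have pa : ∀ w, p (w + A w) = p w 2 • ![γ, β, 0] := fun w => by
    rw [map_add, h.act]; generalize p w = x; clear * -; revert β γ x; decide
  have fx : ∀ x, utE 0 β γ x = x → x 2 = 0 := by clear * - h0; revert β γ; decide
  have py : p (u + A u) = ![γ, β, 0] := by rw [pa, hu]; exact one_smul _ _
  let P : AddSubgroup M := A.eqLocus (AddMonoidHom.id M) ⊓ (ρ d).eqLocus (-AddMonoidHom.id M)
  have hP : ∀ w, w + A w ∈ P := fun w => ⟨show A _ = _ by rw [map_add, aa, add_comm]; rfl, h1 w⟩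
  have hj : ∀ x, j x ∈ P → x = 0 ∨ x = ![γ, β, 0] := fun x ⟨e1, e2⟩ =>
    h2 x (h.jinj ((h.jact _ x).symm.trans e1)) ((h.jinj ((h.jact _ x).symm.trans
      (e2.trans (map_neg j x).symm))).trans (neg_eq_of_add_eq_zero_left (xm_add_self x)))
  have nrm : ∀ w, ∃ k : ℕ, w + A w = k • (u + A u) ∧ (k : ZMod 2) = p w 2 := fun w => by
    obtain ⟨k, e⟩ := h.cyc P (hP u) (py ▸ hj) (hP w)
    refine ⟨k, e, ?_⟩
    have := congrArg p e
    rw [map_nsmul, pa, py, ← Nat.cast_smul_eq_nsmul (ZMod 2)] at this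
    exact (by decide : ∀ β γ a b : ZMod 2, ¬ (β = 0 ∧ γ = 0) → a • ![γ, β, 0] = b • ![γ, β, 0] → b = a)
      β γ _ _ h0 this
  refine ⟨u + A u, py, nrm, fun w e => ?_, fun w e e1 => ?_, hi⟩
  · obtain ⟨k, e1, e2⟩ := nrm w
    rw [fx (p w) (by rw [← h.act]; exact congrArg p e), ZMod.natCast_eq_zero_iff_even] at e2
    obtain ⟨k, rfl⟩ := e2
    obtain ⟨x, hx⟩ := h.jom (w - k • (u + A u)) (by rw [e] at e1; linear_combination (norm := module) e1)
    refine ⟨k, x, fx x (h.jinj ?_), by rw [hx]; abel⟩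
    rw [← h.jact, hx, map_sub, map_nsmul, map_add, aa, e, add_comm]
  · let C := (A - AddMonoidHom.id M).range
    have c1 : A u - u ∈ C := ⟨u, rfl⟩
    have c2 : p (A u - u) = ![γ, β, 0] := by
      rw [← py, map_sub, map_add, sub_eq_iff_eq_add, add_right_comm, xm_add_self, zero_add]
    have c3 : ∀ w, w + A w = 0 → p w = 0 → w ∈ C := fun w e e1 => by
      obtain ⟨v, rfl⟩ := h.ker w e1
      obtain ⟨x, hx⟩ := h.jom (v + A v) (by rw [map_add] at e; linear_combination (norm := module) e)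
      have : v + A v ∈ C := by
        rcases hj x (hx ▸ hP v) with rfl | rfl <;> rw [← hx]
        · rw [map_zero]; exact zero_mem _
        · rw [← c2, h.jp]; exact nsmul_mem c1 _
      convert sub_mem this (show A v - v ∈ C from ⟨v, rfl⟩) using 1
      abel
    suffices w ∈ C by obtain ⟨v, hv⟩ := this; exact ⟨v, hv.symm⟩
    rcases e1 with e1 | e1
    · exact c3 w e e1
    · simpa using add_mem (c3 (w - (A u - u)) (by simp only [map_sub, aa]; linear_combination (norm := module) e)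
        (by rw [map_sub, e1, c2, sub_self])) c1

end XmMd

namespace Xc

variable (H : Xc t L W N S n p j θ)
include H

/-- `W` written additively -/
def XmA (_ : Xc t L W N S n p j θ) : Type _ := Additive W

instance : AddCommGroup H.XmA :=
  { (inferInstance : AddGroup (Additive W)) with
    add_comm := fun a b => Subtype.ext (H.ab _ (Additive.toMul a).2 _ (Additive.toMul b).2) }

variable {H} in
/-- the underlying element -/
def XmA.vl (x : H.XmA) : G := (Additive.toMul x : W)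

/-- the constructor -/
def xmk {w : G} (hw : w ∈ W) : H.XmA := Additive.ofMul ⟨w, hw⟩

theorem xm_mem (x : H.XmA) : x.vl ∈ W := (Additive.toMul x).2
theorem xm_ext {x y : H.XmA} (e : x.vl = y.vl) : x = y := Subtype.ext e
theorem xm_mk {w : G} (hw : w ∈ W) : (H.xmk hw).vl = w := rfl
theorem xm_add (x y : H.XmA) : (x + y).vl = x.vl * y.vl := rfl
theorem xm_sub (x y : H.XmA) : (x - y).vl = x.vl * y.vl⁻¹ := by rw [sub_eq_add_neg]; rfl
theorem xm_neg (x : H.XmA) : (-x).vl = x.vl⁻¹ := rfl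
theorem xm_zero : (0 : H.XmA).vl = 1 := rfl
theorem xm_smul (k : ℕ) (x : H.XmA) : (k • x).vl = x.vl ^ k := rfl

/-- the map `p` -/
def xmP : H.XmA →+ V3 := AddMonoidHom.mk' (fun x => p x.vl) fun a b => H.add _ (H.xm_mem a) _ (H.xm_mem b)

/-- the map `j` -/
def xmJ : V3 →+ H.XmA := AddMonoidHom.mk' (fun x => H.xmk (H.j_mem x)) fun a b => H.xm_ext (H.j_add a b)

/-- the action -/
noncomputable def xmR (m : V3 ≃+ V3) : H.XmA →+ H.XmA := AddMonoidHom.mk'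
  (fun x => H.xmk (conj_mem_of_mem_normalizer (H.nW (H.full m).choose_spec.1) (H.xm_mem x)))
  fun _ _ => H.xm_ext conj_mul.symm

theorem xm_R {g : G} (hg : g ∈ N) {m : V3 ≃+ V3} (h : Acts W p g m) (x : H.XmA) :
    (H.xmR m x).vl = g * x.vl * g⁻¹ :=
  H.conj_eq (H.full m).choose_spec.1 hg (H.full m).choose_spec.2 h (H.xm_mem x)

theorem xm_U {g : G} (hg : g ∈ N) {α β γ : ZMod 2} (h : Acts W p g (ut α β γ)) (x : H.XmA) :
    (H.xmR (utE α β γ) x).vl = g * x.vl * g⁻¹ := H.xm_R hg h x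

theorem xm_md : XmMd n H.xmP H.xmJ H.xmR where
  ker w e := by
    obtain ⟨v, hv, e⟩ := (H.ker _ (H.xm_mem w)).1 e
    exact ⟨H.xmk hv, H.xm_ext e⟩
  surj x := by
    obtain ⟨w, hw, e⟩ := H.surj x
    exact ⟨H.xmk hw, e⟩
  jp w := H.xm_ext (H.jp _ (H.xm_mem w))
  jinj _ _ e := H.jinj (congrArg XmA.vl e)
  jom w e := by
    obtain ⟨x, e⟩ := (H.jom _ (H.xm_mem w)).1 (congrArg XmA.vl e)
    exact ⟨x, H.xm_ext e⟩
  act m w := (H.full m).choose_spec.2 _ (H.xm_mem w)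
  mul m m' m'' e w := by
    obtain ⟨g, hg, h1⟩ := H.full m
    obtain ⟨g', hg', h2⟩ := H.full m'
    have h3 := h1.mul (H.nW hg') h2
    rw [show ⇑m ∘ ⇑m' = m'' from funext e] at h3
    refine H.xm_ext ?_
    rw [H.xm_R hg h1, H.xm_R hg' h2, H.xm_R (mul_mem hg hg') h3]; group
  one w := H.xm_ext (by rw [H.xm_R (one_mem _) Acts.xb_one]; group)

/-- the norm map of the four-group with centre `e0` vanishes -/
theorem sumA {a b : G} (ha : a ∈ N) (hb : b ∈ N) (h : Acts W p a (ut 0 0 1)) (h' : Acts W p b (ut 1 0 0)) {w : G}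
    (hw : w ∈ W) : w * (a * w * a⁻¹) * (b * (w * (a * w * a⁻¹)) * b⁻¹) = 1 := by
  simpa only [H.xm_add, H.xm_U ha h, H.xm_U hb h', H.xm_mk, H.xm_zero] using
    congrArg XmA.vl (H.xm_md.sumA (H.xmk hw))

/-- the norm map of the four-group with axis `x 2 = 0` vanishes -/
theorem sumB {a b : G} (ha : a ∈ N) (hb : b ∈ N) (h : Acts W p a (ut 0 0 1)) (h' : Acts W p b (ut 0 1 0)) {w : G}
    (hw : w ∈ W) : w * (a * w * a⁻¹) * (b * (w * (a * w * a⁻¹)) * b⁻¹) = 1 := by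
  simpa only [H.xm_add, H.xm_U ha h, H.xm_U hb h', H.xm_mk, H.xm_zero] using
    congrArg XmA.vl (H.xm_md.sumB (H.xmk hw))

theorem exists_my {β γ : ZMod 2} (h : ¬ (β = 0 ∧ γ = 0)) : ∃ y, My W N p j β γ y := by
  obtain ⟨y, h1, h2, h3, h4, h5⟩ := H.xm_md.exists_my h
  refine ⟨y.vl, H.xm_mem y, h1, fun a ha e w hw => ?_, fun a ha e w hw e1 => ?_, fun a ha e w hw e1 e2 => ?_,
    fun g hg β' γ' e => ?_⟩
  · obtain ⟨k, e1, e2⟩ := h2 (H.xmk hw)
    exact ⟨k, by simpa only [H.xm_add, H.xm_U ha e, H.xm_mk, H.xm_smul] using congrArg XmA.vl e1, e2⟩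
  · obtain ⟨k, x, e2, e3⟩ := h3 (H.xmk hw) (H.xm_ext (by rw [H.xm_U ha e, H.xm_mk, e1, mul_inv_cancel_right]))
    exact ⟨k, x, e2, congrArg XmA.vl e3⟩
  · obtain ⟨v, e3⟩ := h4 (H.xmk hw) (H.xm_ext (by rw [H.xm_add, H.xm_U ha e]; exact e1)) e2
    exact ⟨v.vl, H.xm_mem v, by simpa only [H.xm_sub, H.xm_U ha e, H.xm_mk] using congrArg XmA.vl e3⟩
  · rw [← H.xm_U hg e, h5]; split_ifs <;> rfl

theorem act_y {y : G} (M : My W N p j 0 1 y) {g : G} (hg : g ∈ N) {α β γ : ZMod 2} (h : Acts W p g (ut α β γ)) :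
    g * y * g⁻¹ = if α = β then y else y⁻¹ := by
  obtain ⟨a, ha, h1⟩ := H.utX 0 0 1
  obtain ⟨d, hd, h2⟩ := H.utX 1 0 0
  obtain ⟨b, hb, h3⟩ := H.utX 0 β (γ + α * β)
  obtain ⟨w, hw, e⟩ := H.surj xmE2
  obtain ⟨k, e1, e2⟩ := M.nrm a (H.SN ha) h1 w hw
  have h4 := H.sumA (H.SN ha) (H.SN hd) h1 h2 hw
  have h5 := conj_mem_of_mem_normalizer (H.nW (H.SN hd)) M.yW
  rw [e1, ← conj_pow, ← Commute.mul_pow (H.ab _ M.yW _ h5)] at h4
  have h6 : d * y * d⁻¹ = y⁻¹ := eq_inv_of_mul_eq_one_right (orderOf_eq_one_iff.1 (Nat.Coprime.eq_one_of_dvd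
    (((Nat.coprime_two_right.2 ((ZMod.natCast_eq_one_iff_odd.1 (e2.trans (by rw [e]; rfl))).of_dvd_nat
      (orderOf_dvd_of_pow_eq_one h4)))).pow_right _) (orderOf_dvd_of_pow_eq_one (H.pow_eq_one (mul_mem M.yW h5)))))
  have h7 := M.actB b (H.SN hb) _ _ h3
  have z : ∀ x : ZMod 2, x = 0 ∨ x = 1 := by decide
  rcases z α with rfl | rfl
  · rw [M.actB g hg _ _ h]
    exact if_congr (by clear * -; revert β γ; decide) rfl rfl
  · have h8 := H.act_ut (H.SN hb) h2 h3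
    rw [add_zero, zero_add, zero_add, add_assoc, CharTwo.add_self_eq_zero, add_zero] at h8
    rw [H.conj_eq hg (H.SN (mul_mem hd hb)) h h8 M.yW, show d * b * y * (d * b)⁻¹ = d * (b * y * b⁻¹) * d⁻¹ by group,
      h7]
    rcases z β with rfl | rfl
    · rw [if_pos (by clear * -; revert γ; decide), if_neg (by decide), h6]
    · rw [if_neg (by clear * -; revert γ; decide), if_pos rfl, ← conj_inv, h6, inv_inv]

theorem xm_cent {a : G} (ha : a ∈ N) (h : Acts W p a (ut 0 0 1)) :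
    Nat.card ↥(W ⊓ centralizer {a}) ≤ 2 ^ (n + 2) := by
  obtain ⟨y, M⟩ := H.exists_my (β := 0) (γ := 1) (by decide)
  have h1 : y ∈ W ⊓ centralizer {a} := ⟨M.yW, mem_centralizer_singleton_iff.2 (by
    have := M.actB a ha _ _ h
    rw [if_pos (by decide)] at this
    exact (mul_inv_eq_iff_eq_mul.1 this).symm)⟩
  have h2 : j e0 ∈ zpowers y := by
    rw [show e0 = p y from M.py.symm, H.jp y M.yW]; exact pow_mem (mem_zpowers y) _
  have h3 : ∀ w ∈ W ⊓ centralizer {a}, w ∉ zpowers y → w * j e1 ∈ zpowers y := fun w hw hn => by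
    obtain ⟨k, x, e1, rfl⟩ := M.cen a ha h w hw.1 (mem_centralizer_singleton_iff.1 hw.2).symm
    have hk := pow_mem (mem_zpowers y) k
    rw [mul_mem_cancel_left hk] at hn
    rw [mul_assoc, mul_mem_cancel_left hk, ← H.j_add]
    rcases (by decide : ∀ x : V3, x 2 = 0 → x = 0 ∨ x = e0 ∨ x + GMS.e1 = 0 ∨ x + GMS.e1 = e0) x e1 with
      e | e | e | e
    exacts [absurd (by rw [e, H.j_zero]; exact one_mem _) hn, absurd (e ▸ h2) hn,
      by rw [e, H.j_zero]; exact one_mem _, e ▸ h2]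
  refine (U3S.card_le_two (zpowers_le.2 h1) fun u hu v hv e1 e2 => ?_).trans ?_
  · have := mul_mem (h3 u hu e1) (h3 v hv e2)
    rwa [H.ab v hv.1 _ (H.j_mem _), mul_assoc, ← mul_assoc (j _), H.j_sq, one_mul] at this
  · rw [Nat.card_zpowers, pow_succ']
    exact Nat.mul_le_mul_left 2 (Nat.le_of_dvd (by positivity) (orderOf_dvd_of_pow_eq_one (H.pow_eq_one M.yW)))

theorem card_cent {s : G} (hs : s ∈ S) (hW : s ∉ W) : Nat.card ↥(W ⊓ centralizer {s}) ≤ 2 ^ (n + 2) := by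
  obtain ⟨α, β, γ, h⟩ := H.utS s hs
  by_cases e : α * β = 0
  · obtain ⟨m, hm, e1⟩ := H.exists_type e (γ := γ)
      fun ⟨e1, e2, e3⟩ => hW (H.ut0 s hs (by rwa [e1, e2, e3, ut_zero] at h))
    have h1 := mul_mem (mul_mem (inv_mem hm) (H.SN hs)) (inv_mem (inv_mem hm))
    have h2 := H.xm_cent h1 ((e1 _ h1).2 (by rwa [show m * (m⁻¹ * s * m⁻¹⁻¹) * m⁻¹ = s by group]))
    rwa [← cj_centralizer_singleton, ← mem_normalizer_iff_cj.1 (H.nW (inv_mem hm)), ← cj_inf, card_cj] at h2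
  · have h1 := H.act_ut (H.SN hs) h h
    rw [CharTwo.add_self_eq_zero, CharTwo.add_self_eq_zero, CharTwo.add_self_eq_zero, zero_add,
      (by decide : ∀ x : ZMod 2, x ≠ 0 → x = 1) _ e] at h1
    refine (card_le_of_le (inf_le_inf_left W fun x hx => ?_)).trans (H.xm_cent (H.SN (mul_mem hs hs)) h1)
    rw [mem_centralizer_singleton_iff] at hx ⊢
    rw [← mul_assoc, hx, mul_assoc, hx, mul_assoc]

/-- an abelian subgroup of `S` has an image of order at most four in `S / W` -/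
theorem xm_two {X : Subgroup G} (hX : X ≤ S) (ab : ∀ a ∈ X, ∀ b ∈ X, a * b = b * a) : ∃ X0 : Subgroup G,
    (∀ x, x ∈ X0 ↔ x ∈ X ∧ ∃ γ, Acts W p x (ut 0 0 γ)) ∧ Nat.card X ≤ 2 * Nat.card X0 ∧
      Nat.card X0 ≤ 2 * Nat.card ↥(X ⊓ W) := by
  have u0 : ∀ {x}, Acts W p x (ut 0 0 0) ↔ Acts W p x id := by rw [ut_zero]
  let X0 : Subgroup G :=
    { carrier := {x | x ∈ X ∧ ∃ γ, Acts W p x (ut 0 0 γ)}
      one_mem' := ⟨one_mem _, 0, u0.2 Acts.xb_one⟩
      mul_mem' := by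
        rintro a b ⟨h1, γ, h2⟩ ⟨h3, γ', h4⟩
        have := H.act_ut (H.SN (hX h3)) h2 h4
        rw [add_zero] at this
        exact ⟨mul_mem h1 h3, _, this⟩
      inv_mem' := by
        rintro a ⟨h1, γ, h2⟩
        exact ⟨inv_mem h1, γ, H.act_inv (H.SN (hX h1)) h2
          ((by decide : ∀ γ x, ut 0 0 γ (ut 0 0 γ x) = x) γ)⟩ }
  have h1 : Nat.card X ≤ 2 * Nat.card X0 := U3S.card_le_two (fun _ h => h.1) fun a ha b hb e1 e2 => by
    obtain ⟨α, β, γ, h⟩ := H.utS a (hX ha)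
    obtain ⟨α', β', γ', h'⟩ := H.utS b (hX hb)
    have h3 := H.act_ut (H.SN (hX hb)) h h'
    have h4 := H.act_ut (H.SN (hX ha)) h' h
    rw [ab b hb a ha] at h4
    obtain ⟨e3, e4⟩ := (by decide +kernel : ∀ α β γ α' β' γ' : ZMod 2, ¬ (α = 0 ∧ β = 0) → ¬ (α' = 0 ∧ β' = 0) →
      γ + γ' + α * β' = γ' + γ + α' * β → α + α' = 0 ∧ β + β' = 0) α β γ α' β' γ'
      (fun e => e1 ⟨ha, γ, by rwa [e.1, e.2] at h⟩) (fun e => e2 ⟨hb, γ', by rwa [e.1, e.2] at h'⟩)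
      (xb_ut_inj (H.act_eq h3 h4)).2.2
    exact ⟨mul_mem ha hb, _, by rwa [e3, e4] at h3⟩
  have h2 : Nat.card X0 ≤ 2 * Nat.card ↥(X ⊓ W) := U3S.card_le_two
    (fun x h => ⟨h.1, 0, u0.2 (H.act_W h.2)⟩) fun a ⟨ha, γ, h⟩ b ⟨hb, γ', h'⟩ e1 e2 => by
    have z : ∀ {x γ}, x ∈ X → x ∉ X ⊓ W → Acts W p x (ut 0 0 γ) → γ = 1 := fun {x γ} hx e h =>
      (by decide : ∀ x : ZMod 2, x ≠ 0 → x = 1) _ fun e0 => e ⟨hx, H.ut0 x (hX hx) (by rwa [e0, ut_zero] at h)⟩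
    rw [z ha e1 h] at h
    rw [z hb e2 h'] at h'
    have := H.act_ut (H.SN (hX hb)) h h'
    rw [add_zero, mul_zero, add_zero, CharTwo.add_self_eq_zero] at this
    exact ⟨mul_mem ha hb, H.ut0 _ (hX (mul_mem ha hb)) (u0.1 this)⟩
  exact ⟨X0, fun _ => Iff.rfl, h1, h2⟩

theorem wc (hn : n ≠ 0) : WC W S L := by
  intro g _ hX
  have hc := card_cj g W
  have ab : ∀ a ∈ cj g W, ∀ b ∈ cj g W, a * b = b * a := by
    rintro _ ⟨a, ha, rfl⟩ _ ⟨b, hb, rfl⟩
    rw [← map_mul, ← map_mul, H.ab a ha b hb]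
  generalize cj g W = X at hX hc ab
  refine eq_of_le_of_card_ge (fun s hs => by_contra fun hW => ?_) hc.ge
  obtain ⟨X0, -, h1, h2⟩ := H.xm_two hX ab
  have h3 := (card_le_of_le (show X ⊓ W ≤ W ⊓ centralizer {s} from fun x hx =>
    ⟨hx.2, mem_centralizer_singleton_iff.2 (ab x hx.1 s hs)⟩)).trans (H.card_cent (hX hs) hW)
  have h4 : 2 ^ (3 * (n + 1)) ≤ 2 ^ (n + 2 + 2) := by
    rw [pow_mul, show 2 ^ 3 = 8 from rfl, ← H.card_W, pow_add _ _ 2]; omega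
  have := (Nat.pow_le_pow_iff_right (by norm_num)).1 h4
  omega

end Xc

end CfsgLib.GMS
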