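import Mathlib
import Cfsg.Agent.Lib.GMS.XM
import Cfsg.Agent.Lib.W2.A8b

/-! Standard subgroups of type `L₂(2^a)` (plans/GMS.md, package X1A). -/

set_option autoImplicit false
set_option linter.unusedSectionVars false

namespace CfsgLib.GMS

open Subgroup Cfsg CfsgLib.Tech CfsgLib.SzS
open scoped MatrixGroups

variable {F : Type*} [Field F] [Finite F] {G : Type*} [Group G] [Finite G]

section hom

open W2 W2.TG

variable {Γ : Type*} [Group Γ]

theorem x1a_tog {x : Γ} (h : x * x = 1) (c : Bool) (r : Γ) : cond c x 1 * (x * r) = cond (!c) x 1 * r := by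
  cases c
  · exact one_mul _
  · exact (mul_assoc ..).symm.trans (congrArg (· * r) h)

theorem x1a_sw {x y : Γ} (h : Commute x y) (c : Bool) (r : Γ) :
    cond c y 1 * (x * r) = x * (cond c y 1 * r) := by
  cases c
  · simp
  · exact h.symm.left_comm r

theorem x1a_sq {g y : Γ} (hg : g * g = 1) (hy : y * y = 1) : g * y * g * (g * y * g) = 1 := by
  simp only [mul_assoc]
  rw [← mul_assoc g g, hg, one_mul, ← mul_assoc y, hy, one_mul, hg]

/-- the presentation of `C₂ ≀ V₄` -/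
theorem x1a_hom {x v b : Γ} (hx : x * x = 1) (hv : v * v = 1) (hb : b * b = 1) (vb : Commute v b)
    (c1 : Commute x (v * x * v)) (c2 : Commute x (b * x * b)) (c3 : Commute x (v * (b * x * b) * v)) :
    ∃ φ : T8 →* Γ, φ T8.z = x * (v * x * v) * (b * x * b * (v * (b * x * b) * v)) := by
  have cj : ∀ {g y y' : Γ}, g * g = 1 → Commute y y' → Commute (g * y * g) (g * y' * g) := fun {g y y'} hg h => by
    simpa only [MulAut.conj_apply, inv_eq_of_mul_eq_one_right hg] using h.map (MulAut.conj g)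
  have cc : ∀ {g : Γ} (y : Γ), g * g = 1 → g * (g * y * g) * g = y := fun y hg => by
    simp only [← mul_assoc, hg, one_mul]; rw [mul_assoc, hg, mul_one]
  have c12 : Commute (v * x * v) (b * x * b) := by simpa only [cc _ hv] using cj hv c3
  have c13 := cj hv c2
  have c23 : Commute (b * x * b) (v * (b * x * b) * v) := by
    rw [show v * (b * x * b) * v = b * (v * x * v) * b by
      simp only [mul_assoc]; rw [vb.left_comm, vb.eq]]
    exact cj hb c1
  have mv : ∀ {g : Γ} (y r : Γ), g * g = 1 → g * (y * r) = g * y * g * (g * r) := fun {g} y r hg => by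
    simp only [mul_assoc]; rw [← mul_assoc g g r, hg, one_mul]
  have s1 := x1a_sq hv hx
  have s2 := x1a_sq hb hx
  have s3 := x1a_sq hv s2
  have m1 := fun r => mv x r hv
  have m2 := fun r => mv x r hb
  have m3 := fun r => mv (b * x * b) r hv
  generalize v * (b * x * b) * v = x3 at *
  generalize b * x * b = x2 at *
  generalize v * x * v = x1 at *
  let f : Bool → Bool → Bool → Bool → Bool → Bool → Γ → Γ := fun c0 c1 c2 c3 c4 c5 r =>
    cond c0 x 1 * (cond c1 x1 1 * (cond c2 x2 1 * (cond c3 x3 1 * (cond c4 v 1 * (cond c5 b 1 * r)))))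
  have fm : ∀ c0 c1 c2 c3 c4 c5 r, f c0 c1 c2 c3 c4 c5 1 * r = f c0 c1 c2 c3 c4 c5 (r * 1) := by
    intros; simp only [f, mul_assoc, mul_one, one_mul]
  refine ⟨homOf (gs := [T8.e0, T8.v1, T8.v2]) (D := 4) (by decide +kernel)
    (fun p => f (bit p.v 0) (bit p.v 1) (bit p.v 2) (bit p.v 3) (bit p.v 4) (bit p.v 5) 1) ?_ ?_, ?_⟩
  · show f false false false false false false 1 = 1
    simp [f]
  · have g1 : f true false false false false false 1 = x := by simp [f]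
    have g2 : f false false false false true false 1 = v := by simp [f]
    have g3 : f false false false false false true 1 = b := by simp [f]
    simp only [List.forall_mem_cons]
    refine ⟨fun a => ?_, fun a => ?_, fun a => ?_, by simp⟩
    · obtain ⟨e0, e1, e2, e3, e4, e5⟩ := (by decide +kernel : ∀ a : T8,
        bit (a * T8.e0).v 0 = xor (bit a.v 0) (!bit a.v 4 && !bit a.v 5) ∧
        bit (a * T8.e0).v 1 = xor (bit a.v 1) (bit a.v 4 && !bit a.v 5) ∧
        bit (a * T8.e0).v 2 = xor (bit a.v 2) (!bit a.v 4 && bit a.v 5) ∧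
        bit (a * T8.e0).v 3 = xor (bit a.v 3) (bit a.v 4 && bit a.v 5) ∧
        bit (a * T8.e0).v 4 = bit a.v 4 ∧ bit (a * T8.e0).v 5 = bit a.v 5) a
      refine Eq.trans ?_ (congrArg _ g1.symm)
      rw [e0, e1, e2, e3, e4, e5, fm]
      cases bit a.v 4 <;> cases bit a.v 5 <;>
        simp only [f, cond_true, cond_false, one_mul, Bool.not_true, Bool.not_false, Bool.and_true, Bool.and_false,
          Bool.xor_true, Bool.xor_false]
      · rw [x1a_sw c3, x1a_sw c2, x1a_sw c1, x1a_tog hx]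
      · rw [m2, x1a_sw c23, x1a_tog s2]
      · rw [m1, x1a_sw c13, x1a_sw c12, x1a_tog s1]
      · rw [m2, m3, x1a_tog s3]
    · obtain ⟨e0, e1, e2, e3, e4, e5⟩ := (by decide +kernel : ∀ a : T8,
        bit (a * T8.v1).v 0 = bit a.v 0 ∧ bit (a * T8.v1).v 1 = bit a.v 1 ∧ bit (a * T8.v1).v 2 = bit a.v 2 ∧
        bit (a * T8.v1).v 3 = bit a.v 3 ∧ bit (a * T8.v1).v 4 = (!bit a.v 4) ∧ bit (a * T8.v1).v 5 = bit a.v 5) a
      refine Eq.trans ?_ (congrArg _ g2.symm)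
      rw [e0, e1, e2, e3, e4, e5, fm]
      simp only [f]
      rw [x1a_sw vb, x1a_tog hv]
    · obtain ⟨e0, e1, e2, e3, e4, e5⟩ := (by decide +kernel : ∀ a : T8,
        bit (a * T8.v2).v 0 = bit a.v 0 ∧ bit (a * T8.v2).v 1 = bit a.v 1 ∧ bit (a * T8.v2).v 2 = bit a.v 2 ∧
        bit (a * T8.v2).v 3 = bit a.v 3 ∧ bit (a * T8.v2).v 4 = bit a.v 4 ∧ bit (a * T8.v2).v 5 = !bit a.v 5) a
      refine Eq.trans ?_ (congrArg _ g3.symm)
      rw [e0, e1, e2, e3, e4, e5, fm]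
      simp only [f]
      rw [x1a_tog hb]
  · show f true true true true false false 1 = _
    simp [f, mul_assoc]

theorem x1a_false {Γ : Type*} [Group Γ] [Finite Γ] {φ : T8 →* Γ} (hz : φ T8.z ≠ 1) {P : Subgroup Γ}
    (hP : IsSylowIn 2 P ⊤) (hc : Nat.card P = 64)
    (h1 : ∀ a b : Γ, a * a = 1 → b * b = 1 → a ≠ 1 → b ≠ 1 → IsConj a b) : False := by
  have hi := injective_of_socle φ hz [T8.v1, T8.v2, T8.f1, T8.f2] (by decide +kernel)
  have e : Nat.card φ.range = 64 := by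
    rw [← Nat.card_congr (MonoidHom.ofInjective hi).toEquiv, T8.card_T]
  have h : T8.S8 φ := ⟨hi, hP.of_card_le (IsPGroup.of_card (n := 6) e) le_top (by rw [hc, e])⟩
  have key : ∀ i ∈ [1, 2, 3], ∃ e < 2, T8.Gm φ ⊤ (T8.Y i e) := fun i hi' => h.exY hi' (by
    obtain ⟨e1, e2⟩ := (by decide +kernel : ∀ i ∈ [1, 2, 3], T8.ff i * T8.ff i = 1 ∧ T8.ff i ≠ 1) i hi'
    exact h1 _ _ (by rw [← map_mul, e1, map_one]) T8.zz (by rwa [Ne, map_eq_one_iff φ hi]) hz)
  obtain ⟨a, ha, a1⟩ := key 1 (by simp)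
  obtain ⟨b, hb, b1⟩ := key 2 (by simp)
  obtain ⟨c, hc, c1⟩ := key 3 (by simp)
  rcases (by omega : a = b ∨ a = c ∨ b = c) with rfl | rfl | rfl
  exacts [h.not_YY (by simp) (by simp) (by simp) ha a1 b1, h.not_YY (by simp) (by simp) (by simp) ha a1 c1,
    h.not_YY (by simp) (by simp) (by simp) hb b1 c1]

end hom

theorem Xc.x1a_pair {t : G} {L W N S : Subgroup G} {p : G → V3} {j : V3 → G} {θ : G} (H : Xc t L W N S 0 p j θ)
    {X : Subgroup G} (hX : X ≤ S) (ab : ∀ a ∈ X, ∀ b ∈ X, a * b = b * a) (hc : 8 < Nat.card X) :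
    ∃ x ∈ X, ∃ y ∈ X, Acts W p x (ut 0 1 0) ∧ Acts W p y (ut 0 0 1) := by
  obtain ⟨X0, h0, h1, h2⟩ := H.xm_two hX ab
  have z : ∀ x : ZMod 2, x = 0 ∨ x = 1 := by decide
  obtain ⟨s, hs, hW⟩ : ∃ s ∈ X, s ∉ W := by
    by_contra! e
    have := card_le_of_le (show X ≤ W from e)
    rw [H.card_W] at this; omega
  have h3 : Nat.card ↥(X ⊓ W) ≤ 4 := (card_le_of_le (show X ⊓ W ≤ W ⊓ centralizer {s} from fun x hx =>
    ⟨hx.2, mem_centralizer_singleton_iff.2 (ab x hx.1 s hs)⟩)).trans (H.card_cent (hX hs) hW)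
  obtain ⟨y, hy, hy'⟩ : ∃ y ∈ X0, y ∉ X ⊓ W := by
    by_contra! e
    have := card_le_of_le (show X0 ≤ X ⊓ W from e)
    omega
  obtain ⟨x, hx, hx'⟩ : ∃ x ∈ X, x ∉ X0 := by
    by_contra! e
    have := card_le_of_le (show X ≤ X0 from e)
    omega
  obtain ⟨w, hw, hw'⟩ : ∃ w ∈ X ⊓ W, w ∉ zpowers (j e0) := by
    by_contra! e
    have := card_le_of_le (show X ⊓ W ≤ zpowers (j e0) from e)
    have := Nat.le_of_dvd two_pos (orderOf_dvd_of_pow_eq_one ((pow_two _).trans (H.j_sq e0)))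
    rw [← Nat.card_zpowers] at this
    omega
  obtain ⟨hy, γ, a1⟩ := (h0 y).1 hy
  rcases z γ with rfl | rfl
  · exact absurd ⟨hy, H.ut0 y (hX hy) (by rwa [ut_zero] at a1)⟩ hy'
  obtain ⟨α, β, γ, a2⟩ := H.utS x (hX hx)
  obtain ⟨ξ, rfl⟩ := (H.jom w hw.2).1 (by simpa [pow_two] using H.pow_eq_one hw.2)
  have f : ∀ {g m}, g ∈ X → Acts W p g m → m ξ = ξ := fun {g m} hg e => H.jinj (by
    rw [← H.j_act (H.nW (H.SN (hX hg))) e, ab g hg _ hw.1, mul_inv_cancel_right])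
  obtain ⟨rfl, rfl⟩ := (by decide +kernel : ∀ (α β γ : ZMod 2) (ξ : V3), ut 0 0 1 ξ = ξ → ut α β γ ξ = ξ → ξ ≠ 0 →
    ξ ≠ e0 → ¬ (α = 0 ∧ β = 0) → α = 0 ∧ β = 1) α β γ ξ (f hy a1) (f hx a2)
    (fun e => hw' (by rw [e, H.j_zero]; exact one_mem _)) (fun e => hw' (e ▸ mem_zpowers _))
    fun e => hx' ((h0 x).2 ⟨hx, γ, by rwa [e.1, e.2] at a2⟩)
  rcases z γ with rfl | rfl
  · exact ⟨x, hx, y, hy, a2, a1⟩
  · have := H.act_ut (H.SN (hX hy)) a2 a1
    rw [add_zero, add_zero, mul_zero, add_zero, CharTwo.add_self_eq_zero] at this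
    exact ⟨_, mul_mem hx hy, y, hy, this, a1⟩

theorem Xc.rank {t : G} {L W N S : Subgroup G} {p : G → V3} {j : V3 → G} {θ : G} (H : Xc t L W N S 0 p j θ)
    (h1 : One L) {a : G} (ha : a ∈ S) (aa : a * a = 1) (h : Acts W p a (ut 0 0 1)) : PRankLE 2 3 L := by
  intro A hA el
  by_contra! hc
  have sq0 : ∀ x ∈ A.map L.subtype, x * x = 1 := by
    rintro _ ⟨x, hx, rfl⟩
    rw [← map_mul, ← pow_two, el x hx, map_one]
  obtain ⟨g, -, hX⟩ := H.syl.exists_cj_le (Q := A.map L.subtype)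
    (isPGroup_iff_mem.2 fun x hx => ⟨1, (pow_two x).trans (sq0 x hx)⟩) (map_subtype_le _)
  have sq : ∀ x ∈ cj g (A.map L.subtype), x * x = 1 := by
    rintro _ ⟨x, hx, rfl⟩
    rw [← map_mul, sq0 x hx, map_one]
  have hc' : 8 < Nat.card (cj g (A.map L.subtype)) := by
    rwa [card_cj, card_map_of_injective L.subtype_injective]
  generalize cj g (A.map L.subtype) = X at hX sq hc'
  have inv : ∀ {x : G}, x * x = 1 → x⁻¹ = x := inv_eq_of_mul_eq_one_right
  have ab : ∀ a ∈ X, ∀ b ∈ X, a * b = b * a := fun a ha b hb => by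
    rw [← inv (sq _ (mul_mem ha hb)), mul_inv_rev, inv (sq a ha), inv (sq b hb)]
  obtain ⟨x, hx, y, hy, a1, a2⟩ := H.x1a_pair hX ab hc'
  obtain ⟨b, hb, bb, a3⟩ := H.exists_inv ha aa h (α := 1) (β := 0) (γ := 0) (by decide) (by decide)
  have xx := sq x hx
  have act : ∀ {g m}, g ∈ S → Acts W p g m → ∀ ξ, g * j ξ = j (m ξ) * g := fun hg e ξ =>
    mul_inv_eq_iff_eq_mul.1 (H.j_act (H.nW (H.SN hg)) e ξ)
  have hx2 := mul_mem (mul_mem hb (hX hx)) hb
  have a4 : Acts W p (b * x * b) (ut 0 1 1) := by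
    simpa [CharTwo.add_self_eq_zero] using H.act_ut (H.SN hb) (H.act_ut (H.SN (hX hx)) a3 a1) a3
  have a5 : Acts W p (x * y) (ut 0 1 1) := by simpa using H.act_ut (H.SN (hX hy)) a1 a2
  have cv : ∀ {g m}, g ∈ S → Acts W p g m → j xmE2 * g * j xmE2 = j (xmE2 + m xmE2) * g := fun hg e => by
    rw [mul_assoc, act hg e, H.j_add, mul_assoc]
  have cx : ∀ ξ, ut 0 1 0 ξ = ξ → Commute x (j ξ) := fun ξ e => (act (hX hx) a1 ξ).trans (by rw [e])
  have c2 : Commute x (b * x * b) := by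
    have hw := H.mem_of_same hx2 (hX (mul_mem hx hy)) a4 a5
    obtain ⟨ξ, e⟩ := (H.jom _ hw).1 (by simpa [pow_two] using H.pow_eq_one hw)
    have e1 := x1a_sq bb xx
    rw [eq_mul_inv_iff_mul_eq] at e
    rw [← e, mul_assoc, ← mul_assoc (x * y), act (hX (mul_mem hx hy)) a5, mul_assoc,
      sq _ (mul_mem hx hy), mul_one, ← H.j_add, ← H.j_zero] at e1
    rw [← e]
    exact (cx ξ ((by decide : ∀ ξ, ξ + ut 0 1 1 ξ = 0 → ut 0 1 0 ξ = ξ) ξ (H.jinj e1))).mul_right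
      (ab x hx _ (mul_mem hx hy))
  have m : ∀ {g}, g ∈ S → g ∈ L := fun hg => H.syl.le hg
  have hv := H.WS (H.j_mem xmE2)
  obtain ⟨φ, e⟩ := x1a_hom (Γ := L) (x := ⟨x, m (hX hx)⟩) (v := ⟨j xmE2, m hv⟩) (b := ⟨b, m hb⟩)
    (Subtype.ext xx) (Subtype.ext (H.j_sq _)) (Subtype.ext bb) (Subtype.ext (act hb a3 xmE2).symm)
    (Subtype.ext (show Commute x (j xmE2 * x * j xmE2) by
      rw [cv (hX hx) a1]; exact (cx _ (by decide)).mul_right (Commute.refl x))) (Subtype.ext c2)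
    (Subtype.ext (show Commute x (j xmE2 * (b * x * b) * j xmE2) by
      rw [cv hx2 a4]; exact (cx _ (by decide)).mul_right c2))
  refine x1a_false (φ := φ) (fun e1 => ?_) (IsSylowIn.of_sylow_top H.syl.toSylow) ?_ fun a b h2 h3 h4 h5 => ?_
  · have e2 : x * (j xmE2 * x * j xmE2) * (b * x * b * (j xmE2 * (b * x * b) * j xmE2)) = 1 :=
      congrArg Subtype.val (e.symm.trans e1)
    have pr : ∀ {g m}, g ∈ S → g * g = 1 → Acts W p g m → g * (j xmE2 * g * j xmE2) = j (m xmE2 + xmE2) :=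
      fun {g m} hg gg e => by
        rw [← mul_assoc, ← mul_assoc, act hg e, mul_assoc _ g g, gg, mul_one, H.j_add]
    rw [pr (hX hx) xx a1, pr hx2 (x1a_sq bb xx) a4, ← H.j_add, ← H.j_zero] at e2
    exact absurd (H.jinj e2) (by decide)
  · rw [H.syl.coe_toSylow, Nat.card_congr (subgroupOfEquivOfLe H.syl.le).toEquiv, H.card_S]; rfl
  · obtain ⟨g, hg, e⟩ := h1 a a.2 b b.2 (congrArg Subtype.val h2) (congrArg Subtype.val h3)
      (fun e => h4 (Subtype.ext e)) fun e => h5 (Subtype.ext e)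
    exact isConj_iff.2 ⟨⟨g, hg⟩, Subtype.ext e⟩

end CfsgLib.GMS
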