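import Mathlib
import Cfsg.Agent.Lib.GMS.X1A
import Cfsg.Agent.Lib.Rk3.TM
import Cfsg.Agent.Lib.Rk3.End

/-! Standard subgroups of type `L₂(2^a)` (plans/GMS.md, package X1B). -/

set_option autoImplicit false
set_option linter.unusedSectionVars false

namespace CfsgLib.GMS

open Subgroup Cfsg CfsgLib.Tech CfsgLib.SzS
open scoped MatrixGroups

variable {F : Type*} [Field F] [Finite F] {G : Type*} [Group G] [Finite G]

namespace X1B

open scoped commutatorElement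

variable {X : Type*} [Group X] [Finite X] {F₁ F₂ : Type} [Field F₁] [Fintype F₁] [Field F₂] [Fintype F₂]

/-- the action of the outer involution on the centraliser of `j` -/
structure Ot (j : X) (τ : MulAut X) (V : Subgroup X) (v w θ : X) : Prop where
  ττ : ∀ x, τ (τ x) = x
  τj : τ j = j
  el : ∀ x ∈ V, x * x = 1
  ct : ∀ x, τ x = x → x * j = j * x → IsPGroup 2 (zpowers x) → x ∈ V
  vV : v ∈ V
  wV : w ∈ V
  jV : j ∈ V
  τv : τ v = v
  τw : τ w = w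
  θj : θ * j = j * θ
  θv : θ * v * θ⁻¹ = w
  θw : θ * w * θ⁻¹ = v * w
  ne : ∀ x, x = v ∨ x = w ∨ x = v * w → x ≠ 1 ∧ x ≠ j

variable (P : FW.Pair X F₁ F₂) {τ : MulAut X} {V : Subgroup X} {v w θ : X} (h : Ot P.j τ V v w θ)
include h

theorem mem_Y : v ∈ P.Y ∧ w ∈ P.Y := by
  have el : Rk3.El V := h.el
  have n : ∀ y ∈ P.Y, θ * y * θ⁻¹ ∈ P.Y := fun y hy =>
    conj_mem_of_mem_normalizer (P.C_le_norm_Y (mem_centralizer_singleton_iff.2 h.θj)) hy
  have e : θ * (v * w) * θ⁻¹ = v := by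
    rw [← conj_mul, h.θv, h.θw, el.comm h.vV h.wV, ← mul_assoc, h.el w h.wV, one_mul]
  have h1 : v ∈ P.Y → v ∈ P.Y ∧ w ∈ P.Y := fun a => ⟨a, h.θv ▸ n v a⟩
  rcases FW.Pair.two_cases (P := P) el.pg (fun x hx => mem_centralizer_singleton_iff.2 (el.comm hx h.jV)) h.vV h.wV
    with a | a | a
  · exact h1 a
  · exact h1 (e ▸ n _ (h.θw ▸ n w a))
  · rw [inv_eq_of_mul_eq_one_right (h.el w h.wV)] at a
    exact h1 (e ▸ n _ a)

theorem not_fix {a : SL(2, F₁)} {b : SL(2, F₂)} {x : X} (hx : x = v ∨ x = w ∨ x = v * w)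
    (e : x = P.A.f a * P.B.f b) : τ (P.B.f b) ≠ P.B.f b := fun e1 => by
  have xV : x ∈ V := by
    rcases hx with rfl | rfl | rfl
    exacts [h.vV, h.wV, mul_mem h.vV h.wV]
  obtain ⟨a', b', -, hb, e2⟩ := ((FW.Pair.inv_Y (FW.Pair.mem_Y.2 ⟨a, b, e⟩) (h.el x xV)).resolve_left
    (h.ne x hx).1).resolve_left (h.ne x hx).2
  have e3 : P.B.f b * P.B.f b = P.j := by
    refine (map_mul _ _ _).symm.trans ((congrArg P.B.f ?_).trans P.B.neg)
    rw [← hb]
    rcases FW.Pair.prod_eq (e.symm.trans e2) with ⟨-, rfl⟩ | ⟨-, rfl⟩ <;> simp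
  have := h.el _ (h.ct _ e1 (mem_centralizer_singleton_iff.1 (P.B.f_mem b))
    (isPGroup_zpowers_of_pow (k := 2) (by rw [pow_two, pow_mul, pow_two, pow_two, e3, P.B.jj])))
  exact P.B.j_ne (e3.symm.trans this)

/-- the outer involution does not normalise the factors -/
theorem not_norm : ¬ ∀ b, τ (P.B.f b) ∈ P.B.L := fun hn => by
  have key : ∀ x, τ x = x → ∀ a b, x = P.A.f a * P.B.f b →
      τ (P.B.f b) = P.B.f b ∨ τ (P.B.f b) = P.j * P.B.f b := fun x hx a b e => by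
    obtain ⟨b', hb⟩ := hn b
    have e1 : P.B.f (b * b'⁻¹) = (P.A.f a)⁻¹ * τ (P.A.f a) := by
      rw [e, map_mul τ, ← hb] at hx
      rw [map_mul, map_inv, mul_inv_eq_iff_eq_mul, mul_assoc, hx, inv_mul_cancel_left]
    have e2 : b * b'⁻¹ ∈ center SL(2, F₂) := mem_center_iff.2 fun s => P.B.inj (by
      obtain ⟨s', hs⟩ := hn s
      have e3 : τ (P.A.f a) * P.B.f s = P.B.f s * τ (P.A.f a) := by
        have := congrArg τ (P.comm a s')
        rwa [map_mul, map_mul, hs, h.ττ] at this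
      rw [map_mul, map_mul P.B.f (b * b'⁻¹), e1, mul_assoc, e3, ← map_inv, ← mul_assoc, ← mul_assoc, P.comm])
    rw [← hb, ← P.B.f_neg]
    rcases (SL2.mem_center_iff _).1 e2 with e3 | e3
    · exact Or.inl (congrArg _ (mul_inv_eq_one.1 e3).symm)
    · exact Or.inr (congrArg _ (by rw [mul_inv_eq_iff_eq_mul] at e3; simp [e3]))
  obtain ⟨h1, h2⟩ := mem_Y P h
  obtain ⟨a, b, e⟩ := FW.Pair.mem_Y.1 h1
  obtain ⟨a', b', e'⟩ := FW.Pair.mem_Y.1 h2
  have e1 := (key v h.τv a b e).resolve_left (not_fix P h (Or.inl rfl) e)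
  have e2 := (key w h.τw a' b' e').resolve_left (not_fix P h (Or.inr (Or.inl rfl)) e')
  refine not_fix P h (Or.inr (Or.inr rfl)) (a := a * a') (b := b * b') (by rw [e, e', P.prod_mul]) ?_
  rw [map_mul, map_mul, e1, e2, ← P.B.f_neg, ← P.B.f_neg, ← map_mul, ← map_mul, neg_mul_neg]

theorem three : Fintype.card F₂ = 3 := by
  have := Fact.mk Nat.prime_two
  by_contra h3
  have h1 := P.B.odd
  have h2 : 1 < Fintype.card F₂ := Fintype.one_lt_card
  have h4 := Classical.sl_fin_commutator_eq_top (F := F₂) 2 le_rfl fun _ => by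
    obtain ⟨k, hk⟩ := h1
    omega
  have qs : IsQuasisimple SL(2, F₂) := ⟨⟨h4⟩, Classical.psl_isSimpleGroup_of_perfect h4⟩
  have hp : ⁅P.B.L, P.B.L⁆ = P.B.L := by
    rw [FW.Side.L, MonoidHom.range_eq_map, ← map_commutator, ← commutator_def, h4]
  have τC : ∀ x, x ∈ P.C → τ x ∈ P.C := fun x hx => mem_centralizer_singleton_iff.2 (by
    have := congrArg τ (mem_centralizer_singleton_iff.1 hx)
    rwa [map_mul, map_mul, h.τj] at this)
  set K := P.B.L.map τ.toMonoidHom with hK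
  have KC : K ≤ P.C := by
    rintro _ ⟨x, hx, rfl⟩
    exact τC x (P.B.L_le hx)
  have nK : ∀ c ∈ P.C, ∀ x ∈ K, c * x * c⁻¹ ∈ K := by
    rintro c hc _ ⟨x, hx, rfl⟩
    exact ⟨_, conj_mem_of_mem_normalizer (P.B.le_norm (τC c hc)) hx, by simp [h.ττ]⟩
  have h5 : K.comap P.B.f ≤ center SL(2, F₂) := (Comp.qs_normal qs (K.comap P.B.f) ⟨fun a ha b => by
      rw [mem_comap, map_mul, map_mul, map_inv]
      exact nK _ (P.B.f_mem b) _ ha⟩).resolve_left fun e => not_norm P h fun b => by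
    obtain ⟨x, hx, e1⟩ := e.ge (mem_top b)
    rw [← e1]
    exact (h.ττ x).symm ▸ hx
  have h6 : ⁅K, P.B.L⁆ ≤ K ⊓ P.B.L := commutator_le.2 fun a ha b hb => mem_inf.2
    ⟨by
      rw [commutatorElement_def, mul_assoc, mul_assoc, ← mul_assoc b]
      exact mul_mem ha (nK b (P.B.L_le hb) _ (inv_mem ha)),
    mul_mem (conj_mem_of_mem_normalizer (P.B.le_norm (KC ha)) hb) (inv_mem hb)⟩
  have h7 := commutator_eq_bot_iff_le_centralizer.1 (Comp.commutator_eq_bot_of_perfect (U := K) hp (by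
    rw [commutator_eq_bot_iff_le_centralizer]
    intro a ha
    obtain ⟨h8, b, rfl⟩ := h6 ha
    rw [mem_centralizer_iff]
    rintro _ ⟨k, rfl⟩
    rw [← map_mul, ← map_mul, mem_center_iff.1 (h5 h8) k]))
  have cm : ∀ s s', τ (P.B.f s') * P.B.f s = P.B.f s * τ (P.B.f s') := fun s s' =>
    h7 ⟨s, rfl⟩ _ ⟨_, ⟨s', rfl⟩, rfl⟩
  let ψ : SL(2, F₂) →* X := MonoidHom.mk' (fun s => P.B.f s * τ (P.B.f s)) fun s s' => by
    rw [map_mul, map_mul, mul_assoc, mul_assoc, ← mul_assoc (P.B.f s'), ← cm, mul_assoc]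
  have h8 : pElementClosure 2 (⊤ : Subgroup SL(2, F₂)) ≤ V.comap ψ := PComp.pec_le_iff.2 fun s _ k hk =>
    h.ct _ (by
      change τ (P.B.f s * τ (P.B.f s)) = P.B.f s * τ (P.B.f s)
      rw [map_mul, h.ττ, cm])
      (mem_centralizer_singleton_iff.1 (mul_mem (P.B.f_mem s) (τC _ (P.B.f_mem s))))
      (isPGroup_zpowers_of_pow (k := k) (by rw [← map_pow, ← hk, pow_orderOf_eq_one, map_one]))
  rw [PComp.pec_eq_of_qs (Comp.qs_of_mulEquiv qs topEquiv.symm) (by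
    have o2 : orderOf (-1 : SL(2, F₂)) = 2 := by rw [← orderOf_injective _ P.B.inj, P.B.neg, P.B.orderOf_j]
    rw [card_top, Nat.coprime_two_right, Nat.not_odd_iff_even, even_iff_two_dvd]
    exact o2.symm.dvd.trans (orderOf_dvd_natCard _))] at h8
  have h9 : commutator SL(2, F₂) ≤ ψ.ker := commutator_le.2 fun a _ b _ => by
    rw [MonoidHom.mem_ker, map_commutatorElement, commutatorElement_eq_one_iff_mul_comm]
    exact Rk3.El.comm h.el (h8 trivial) (h8 trivial)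
  refine not_norm P h fun b => ?_
  rw [eq_inv_of_mul_eq_one_right (show P.B.f b * τ (P.B.f b) = 1 from h9 (h4.ge (mem_top b)))]
  exact inv_mem ⟨b, rfl⟩

omit h in
include P in
theorem fin [IsSimpleGroup X] (hn : ¬ IsMulCommutative X) (q1 : Fintype.card F₁ = 3) (q2 : Fintype.card F₂ = 3) :
    IsG23 X := by
  have h2 : 2 ∣ Nat.card X := P.A.orderOf_j ▸ orderOf_dvd_natCard P.j
  have top : ∀ {N : Subgroup X} {M : Type} [Group M], N.Normal → N.index = P.δ → Nonempty (N ≃* M) →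
      Nonempty (X ≃* M) := fun hN h1 ⟨f⟩ => by
    rcases hN.eq_bot_or_eq_top with rfl | rfl
    · rw [Subgroup.index_bot] at h1
      exact absurd (h1 ▸ h2) P.odd_δ.not_two_dvd_nat
    · exact ⟨Subgroup.topEquiv.symm.trans f⟩
  have n1 := (Subgroup.normal_subgroupOf_iff_le_normalizer P.A.L_le).2 P.A.le_norm
  have hO : Cfsg.oddCore (Subgroup.centralizer ({P.j} : Set X)) = ⊥ :=
    (Subgroup.map_eq_bot_iff_of_injective _ (Subgroup.subtype_injective _)).1 P.core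
  obtain ⟨-, -, -, h3 | ⟨-, h3, -⟩ | ⟨-, -, -, N, h3, h4, h5⟩ | ⟨-, -, N, -, -, ⟨h5, -⟩ | ⟨h5, -⟩⟩⟩ :=
    Cfsg.Agent.S3212.result P.A.L P.B.L (MonoidHom.ofInjective P.A.inj).symm
      (MonoidHom.ofInjective P.B.inj).symm P.comm_AB P.j P.A.orderOf_j P.inf_AB P.Y_le hO P.δ P.odd_δ
      (.inl ⟨(Subgroup.normal_subgroupOf_iff_le_normalizer P.Y_le).2 P.C_le_norm_Y, P.idx⟩)
  · refine absurd ⟨P.A.orderOf_j, fun g _ => ?_⟩ (CfsgLib.ZStar.not_isolated_of_simple hn P.j)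
    rcases (inferInstance : (Cfsg.oddCore X).Normal).eq_bot_or_eq_top with e | e
    · rw [e, sup_bot_eq] at h3
      rw [Subgroup.mem_centralizer_singleton_iff.1 (h3.ge (Subgroup.mem_top g)), mul_inv_cancel_right]
    · have : Odd (Nat.card (Cfsg.oddCore X)) := CfsgLib.Core.odd_card_oddCore X
      rw [e, Subgroup.card_top] at this
      exact absurd h2 this.not_two_dvd_nat
  · exact absurd n1 h3
  · exact ⟨F₁, _, _, q1, top h3 h4 h5⟩
  · exact absurd h5 (by rw [q1, q2]; decide)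
  · exact absurd h5 (by rw [q1, q2]; decide)

end X1B

namespace X1B

variable {t : G} {L W N S : Subgroup G} {p : G → V3} {j : V3 → G} {θ : G} (H : Xc t L W N S 0 p j θ)
include H

theorem jL (x : V3) : j x ∈ L := H.NL (H.SN (H.WS (H.j_mem x)))

/-- the coordinates on `W` inside `L` -/
def jj (x : V3) : L := ⟨j x, jL H x⟩

theorem jj_add (x y : V3) : jj H (x + y) = jj H x * jj H y := Subtype.ext (H.j_add x y)

theorem jj_zero : jj H 0 = 1 := Subtype.ext H.j_zero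

theorem jj_inj {x y : V3} : jj H x = jj H y ↔ x = y := ⟨fun e => H.jinj (congrArg Subtype.val e), congrArg _⟩

theorem jj_sq (x : V3) : jj H x * jj H x = 1 := Subtype.ext (H.j_sq x)

theorem jj_comm (x y : V3) : jj H x * jj H y = jj H y * jj H x := by rw [← jj_add, add_comm, jj_add]

theorem jj_act {s : L} (hs : (s : G) ∈ N) {m : V3 → V3} (h : Acts W p s m) (x : V3) :
    s * jj H x * s⁻¹ = jj H (m x) := Subtype.ext (H.j_act (H.nW hs) h x)

theorem jj_fix {s : L} (hs : (s : G) ∈ N) {m : V3 → V3} (h : Acts W p s m) {x : V3} :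
    s * jj H x = jj H x * s ↔ m x = x := by
  rw [← mul_inv_eq_iff_eq_mul, jj_act H hs h, jj_inj]

theorem exists_jj {s : L} (hs : (s : G) ∈ W) : ∃ x, jj H x = s :=
  ⟨p s, Subtype.ext ((H.jp s hs).trans (pow_one _))⟩

theorem mem_V2 {x : V3} : jj H x ∈ Rk3.V2 (jj H e0) (jj H e1) ↔ x 2 = 0 := by
  rw [Rk3.mem_V2 (jj_sq H _) (jj_sq H _) (jj_comm H _ _), ← jj_add, ← jj_zero H, jj_inj, jj_inj, jj_inj, jj_inj]
  revert x
  decide

theorem cfg : ∃ g, Rk3.Cfg (S.subgroupOf L) (jj H e0) (jj H e1) g := by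
  obtain ⟨g, hg, -, ga⟩ := H.exists_th'
  refine ⟨⟨g, H.NL hg⟩, IsSylowIn.of_sylow_top H.syl.toSylow, jj_sq H _, jj_sq H _, ?_, ?_, ?_, H.WS (H.j_mem _),
    H.WS (H.j_mem _), fun s hs => ?_, fun s hs => ?_, ?_, fun y hy yy hc => ?_,
    mem_normalizer_of_forall fun s hs => ?_, ?_, ?_⟩
  · rw [← jj_zero H, Ne, jj_inj]; decide
  · rw [← jj_zero H, Ne, jj_inj]; decide
  · rw [Ne, jj_inj]; decide
  · obtain ⟨α, β, γ, h⟩ := H.utS s hs
    rw [jj_fix H (H.SN hs) h]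
    clear h
    revert α β γ
    decide
  · obtain ⟨α, β, γ, h⟩ := H.utS s hs
    rw [jj_fix H (H.SN hs) h, jj_act H (H.SN hs) h, ← jj_add, jj_inj]
    clear h
    revert α β γ
    decide
  · obtain ⟨s, hs, h⟩ := H.utX 1 0 0
    exact ⟨⟨s, H.syl.le hs⟩, hs, by rw [jj_act H (H.SN hs) h, ← jj_add, jj_inj]; decide⟩
  · have yS : (y : G) ∈ S := (mem_inf.1 hy).1
    obtain ⟨x, rfl⟩ := exists_jj H (H.ut0 y yS (H.act_of_j (H.nW (H.SN yS)) fun x => by
      rw [mul_inv_eq_iff_eq_mul]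
      exact congrArg Subtype.val (hc (jj H x) (mem_inf.2 ⟨H.WS (H.j_mem x), W2.mem_Cx.2 (jj_comm H _ _)⟩)).symm))
    obtain ⟨s, hs, h⟩ := H.utX 0 1 0
    have := hc ⟨s, H.syl.le hs⟩ (mem_inf.2 ⟨hs, W2.mem_Cx.2 (by rw [jj_fix H (H.SN hs) h]; decide)⟩)
    rw [jj_fix H (H.SN hs) h] at this
    rw [mem_V2]
    exact (by decide : ∀ x : V3, ut 0 1 0 x = x → x 2 = 0) x this
  · have sS : (s : G) ∈ S := (mem_inf.1 hs).1
    obtain ⟨α, β, γ, h⟩ := H.utS s sS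
    have h1 := (jj_fix H (H.SN sS) h).1 (W2.mem_Cx.1 (mem_inf.1 hs).2)
    have m : g * s * g⁻¹ ∈ N := mul_mem (mul_mem hg (H.SN sS)) (inv_mem hg)
    have h2 : Acts W p (g * s * g⁻¹) (ut 0 (β + γ) β) := by
      have h3 := ((Acts.mul (H.nW (H.SN sS)) ga h).mul (H.nW (inv_mem hg))
        (H.act_inv hg (m' := fun x => th' (th' x)) ga (by decide)))
      convert h3 using 1
      clear h h3
      revert α β γ
      decide
    obtain ⟨k, hk⟩ := isPGroup_iff_mem.1 H.syl.pgroup s sS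
    exact mem_inf.2 ⟨H.two (g * s * g⁻¹) m (isPGroup_zpowers_of_pow (k := k) (by rw [conj_pow, hk]; simp)) _ _ _ h2,
      W2.mem_Cx.2 ((jj_fix H m h2).2 (by clear h h1 h2; revert β γ; decide))⟩
  · rw [jj_act H hg ga, jj_inj]; decide
  · rw [jj_act H hg ga, ← jj_add, jj_inj]; decide

theorem fin' {a : G} (ha : a ∈ S) (aa : a * a = 1) (h : Acts W p a (ut 0 0 1)) :
    Rk3.Fin' (S.subgroupOf L) (jj H e0) (jj H e1) := by
  refine ⟨jj H ![0, 0, 1], ⟨H.WS (H.j_mem _), jj_sq H _, jj_comm H _ _, by rw [mem_V2]; decide, fun s hs => ?_⟩,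
    fun k hk e => ?_, ?_⟩
  · obtain ⟨α, β, γ, h⟩ := H.utS s hs
    rw [jj_act H (H.SN hs) h, ← jj_add, mem_V2]
    clear h
    revert α β γ
    decide
  · have kS : (k : G) ∈ S := (mem_inf.1 hk).1
    obtain ⟨α, β, γ, h⟩ := H.utS k kS
    have h1 := (jj_fix H (H.SN kS) h).1 (W2.mem_Cx.1 (mem_inf.1 hk).2)
    have h2 := (jj_fix H (H.SN kS) h).1 e
    obtain ⟨x, rfl⟩ := exists_jj H (H.ut0 k kS (by
      convert h using 1
      clear h
      revert α β γ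
      decide))
    rw [Rk3.mem_V3 (jj_sq H _) (jj_comm H _ _) (jj_comm H _ _), ← jj_add, mem_V2, mem_V2]
    generalize x = y
    revert y
    decide
  · obtain ⟨s, hs, ss, h⟩ := H.exists_inv ha aa h (α := 1) (β := 0) (γ := 0) (by decide) (by decide)
    exact ⟨⟨s, H.syl.le hs⟩, hs, Subtype.ext ss, by rw [jj_act H (H.SN hs) h, ← jj_add, jj_inj]; decide⟩

theorem ot : ∃ (τ : MulAut L) (θ' : L), Ot (jj H e0) τ (W.subgroupOf L) (jj H e1) (jj H ![0, 0, 1]) θ' := by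
  have := H.top.norm
  have ti : t⁻¹ = t := inv_eq_of_mul_eq_one_right H.tt
  have τj : ∀ x, MulAut.conjNormal t (jj H x) = jj H x := fun x => Subtype.ext (by
    rw [MulAut.conjNormal_apply, ti]
    exact (H.inv _ (H.j_mem x)).trans (inv_eq_of_mul_eq_one_right (H.j_sq x)))
  refine ⟨MulAut.conjNormal t, ⟨θ, H.NL H.θN⟩, fun x => ?_, τj _, fun x hx => ?_, fun x h1 h2 h3 => ?_, H.j_mem _,
    H.j_mem _, H.j_mem _, τj _, τj _, ?_, ?_, ?_, ?_⟩
  · rw [← MulAut.mul_apply, ← map_mul, H.tt, map_one, MulAut.one_apply]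
  · obtain ⟨y, rfl⟩ := exists_jj H hx
    exact jj_sq H y
  · obtain ⟨k, hk⟩ := isPGroup_iff_mem.1 h3 x (mem_zpowers x)
    obtain ⟨v, e⟩ := H.ct x x.2 (mul_inv_eq_iff_eq_mul.1 (congrArg Subtype.val h1)).symm (congrArg Subtype.val h2)
      (isPGroup_zpowers_of_pow (k := k) (congrArg Subtype.val hk))
    exact mem_subgroupOf.2 (e ▸ H.j_mem v)
  · rw [jj_fix H H.θN H.θact]; decide
  · rw [jj_act H H.θN H.θact, jj_inj]; decide
  · rw [jj_act H H.θN H.θact, ← jj_add, jj_inj]; decide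
  · rw [← jj_add, ← jj_zero H]
    rintro _ (rfl | rfl | rfl) <;> rw [Ne, Ne, jj_inj, jj_inj] <;> decide

end X1B

theorem Xc.g23 {t : G} {L W N S : Subgroup G} {p : G → V3} {j : V3 → G} {θ : G} (H : Xc t L W N S 0 p j θ)
    (hL : IsSimpleGroup L) (h1 : One L) {a : G} (ha : a ∈ S) (aa : a * a = 1) (h : Acts W p a (ut 0 0 1)) :
    IsG23 L := by
  have := Fact.mk Nat.prime_two
  obtain ⟨g, c⟩ := X1B.cfg H
  obtain ⟨x, y, s, d, B⟩ := c.big (H.rank h1 ha aa h) (X1B.fin' H ha aa h)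
  obtain ⟨e⟩ := B.equiv_TM le_rfl
  obtain ⟨φ, hφ, hr⟩ : ∃ φ : GHB.K.TK 0 →* L, W2.Syl φ ∧ φ.range = S.subgroupOf L :=
    ⟨_, W2.Syl.of_equiv c.syl.toSylowTop e⟩
  obtain ⟨F₁, F₂, _, _, _, _, P, hj⟩ := GHB.K.exists_fw hφ (fun a b ha hb => by
    obtain ⟨g, hg, e⟩ := h1 a a.2 b b.2 (congrArg Subtype.val (W2.sq_of_ord ha))
      (congrArg Subtype.val (W2.sq_of_ord hb)) (fun e => W2.ne_one_of_ord ha (Subtype.ext e))
      fun e => W2.ne_one_of_ord hb (Subtype.ext e)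
    exact isConj_iff.2 ⟨⟨g, hg⟩, Subtype.ext e⟩) (GHB.K.core hφ)
  have e1 : P.j = X1B.jj H e0 := Subtype.ext ((H.cent_S (y := P.j) (hr.le ⟨_, hj.symm⟩)
    (congrArg Subtype.val P.A.jj) fun s hs => by
      obtain ⟨q, hq⟩ := hr.ge (show (⟨s, H.syl.le hs⟩ : L) ∈ S.subgroupOf L from hs)
      have := W2.mem_Cx.1 (GHB.K.KL.mem_C φ q)
      rw [hq, ← hj] at this
      exact congrArg Subtype.val this).resolve_left fun e => P.A.j_ne (Subtype.ext e))
  obtain ⟨τ, θ', o⟩ := X1B.ot H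
  rw [← e1] at o
  exact X1B.fin P (hφ.noncomm (GHB.K.cd 0)) (X1B.three P.swap o) (X1B.three P o)

end CfsgLib.GMS
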